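import Groth.Agent.PLie.K796.Words
import Mathlib.Algebra.Polynomial.Derivative
import Mathlib.Algebra.Polynomial.Eval.Degree
import Mathlib.Algebra.Polynomial.BigOperators
import Mathlib.Algebra.Polynomial.AlgebraMap
import Mathlib.Algebra.CharP.Lemmas
import Mathlib.Algebra.Field.ZMod
import Mathlib.Data.Nat.Choose.Sum
import Mathlib.Data.Nat.Choose.Dvd
import Mathlib.Tactic.NoncommRing

/-!
Jacobson's formula `(x + y) ^ p = x ^ p + y ^ p - jacobson x y` in an associative algebra of characteristic `p`.
-/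

set_option autoImplicit false
universe u v w

open PLie

namespace K796.Jacobson

section Choose

variable {B : Type*} [Ring B] {p : ℕ} [hp : Fact p.Prime]

theorem neg_one_pow_pred (h0 : (p : B) = 0) : (-1 : B) ^ (p - 1) = 1 := by
  rcases hp.out.eq_two_or_odd' with h | h
  · subst h
    have h2 : (2 : B) = 0 := by exact_mod_cast h0
    have : (-1 : B) = 1 := by
      rw [neg_eq_iff_add_eq_zero, one_add_one_eq_two, h2]
    simp [this]
  · exact (Nat.Odd.sub_odd h odd_one).neg_one_pow

theorem choose_pred (h0 : (p : B) = 0) (i : ℕ) (hi : i < p) :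
    ((p - 1).choose i : B) = (-1) ^ i := by
  induction i with
  | zero => simp
  | succ i ih =>
    have h1 : (p - 1).choose i + (p - 1).choose (i + 1) = p.choose (i + 1) := by
      conv_rhs => rw [← Nat.sub_add_cancel hp.out.one_le]
      rw [Nat.choose_succ_succ]
    obtain ⟨m, hm⟩ := Nat.Prime.dvd_choose_self hp.out (Nat.succ_ne_zero i) hi
    have h2 : ((p - 1).choose i : B) + ((p - 1).choose (i + 1) : B) = 0 := by
      rw [← Nat.cast_add, h1, hm, Nat.cast_mul, h0, zero_mul]
    rw [ih (by omega)] at h2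
    rw [eq_neg_of_add_eq_zero_right h2, pow_succ, mul_neg_one]

theorem sub_pow_pred (h0 : (p : B) = 0) (a b : B) (hab : Commute a b) :
    (a - b) ^ (p - 1) = ∑ i ∈ Finset.range p, a ^ i * b ^ (p - 1 - i) := by
  rw [sub_eq_add_neg, (hab.neg_right).add_pow, Nat.sub_add_cancel hp.out.one_le]
  refine Finset.sum_congr rfl fun i hi => ?_
  rw [Finset.mem_range] at hi
  rw [choose_pred h0 i hi, neg_pow b, mul_assoc]
  have h1 : (-1 : B) ^ i * (-1) ^ (p - 1 - i) = 1 := by
    rw [← pow_add, Nat.add_sub_cancel' (by omega), neg_one_pow_pred h0]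
  have h3 : (-1 : B) ^ (p - 1 - i) * b ^ (p - 1 - i) * (-1) ^ i = b ^ (p - 1 - i) := by
    rw [(((Commute.neg_one_right b).pow_pow (p - 1 - i) (p - 1 - i)).symm).eq, mul_assoc]
    rw [← pow_add, Nat.sub_add_cancel (by omega), neg_one_pow_pred h0, mul_one]
  rw [h3]

end Choose

section Assoc

attribute [local instance] LieRing.ofAssociativeRing

variable (R : Type u) [CommRing R] {B : Type*} [Ring B] [Algebra R B] {p : ℕ} [hp : Fact p.Prime]

/-- the iterated commutator as a two-sided sum -/
theorem ad_pow_pred_apply (h0 : (p : B) = 0) (a b : B) :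
    ((LieAlgebra.ad R B a) ^ (p - 1)) b = ∑ i ∈ Finset.range p, a ^ i * b * a ^ (p - 1 - i) := by
  have h0' : ((p : ℕ) : Module.End R B) = 0 := by
    ext x
    rw [Module.End.natCast_apply, nsmul_eq_mul, h0, zero_mul]
    rfl
  have h1 : LieAlgebra.ad R B a = LinearMap.mulLeft R a - LinearMap.mulRight R a :=
    congrFun (LieAlgebra.ad_eq_lmul_left_sub_lmul_right (R := R) B) a
  rw [h1, sub_pow_pred h0' _ _ (LinearMap.commute_mulLeft_right (R := R) a a), LinearMap.sum_apply]
  refine Finset.sum_congr rfl fun i hi => ?_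
  rw [LinearMap.pow_mulLeft, LinearMap.pow_mulRight, Module.End.mul_apply, LinearMap.mulRight_apply,
    LinearMap.mulLeft_apply, mul_assoc]

/-- `(ad a) ^ p = ad (a ^ p)` -/
theorem ad_pow (h0 : (p : B) = 0) (a : B) :
    (LieAlgebra.ad R B a) ^ p = LieAlgebra.ad R B (a ^ p) := by
  have h0' : ((p : ℕ) : Module.End R B) = 0 := by
    ext x
    rw [Module.End.natCast_apply, nsmul_eq_mul, h0, zero_mul]
    rfl
  have h1 : ∀ a, LieAlgebra.ad R B a = LinearMap.mulLeft R a - LinearMap.mulRight R a := fun a =>
    congrFun (LieAlgebra.ad_eq_lmul_left_sub_lmul_right (R := R) B) a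
  have h2 : (LieAlgebra.ad R B a) ^ p = (LieAlgebra.ad R B a) * (LieAlgebra.ad R B a) ^ (p - 1) := by
    rw [← pow_succ', Nat.sub_add_cancel hp.out.one_le]
  rw [h2, h1, h1, sub_pow_pred h0' _ _ (LinearMap.commute_mulLeft_right (R := R) a a)]
  have h3 := (LinearMap.commute_mulLeft_right (R := R) a a).mul_geom_sum₂ p
  rw [h3, LinearMap.pow_mulLeft, LinearMap.pow_mulRight]

open Polynomial

theorem derivative_pow_nc (q : B[X]) (n : ℕ) :
    derivative (q ^ n) = ∑ i ∈ Finset.range n, q ^ i * derivative q * q ^ (n - 1 - i) := by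
  induction n with
  | zero => simp
  | succ n ih =>
    rw [pow_succ, derivative_mul, ih, Finset.sum_range_succ, Finset.sum_mul]
    simp only [add_tsub_cancel_right, tsub_self, pow_zero, mul_one]
    congr 1
    refine Finset.sum_congr rfl fun i hi => ?_
    rw [Finset.mem_range] at hi
    rw [mul_assoc, ← pow_succ]
    congr 2
    omega

variable {R}

/-- number of `false` in a word -/
def cnt {n : ℕ} (t : Fin n → Bool) : ℕ := Fintype.card {i // t i = false}

theorem cnt_cons {n : ℕ} (b : Bool) (t : Fin n → Bool) :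
    cnt (Fin.cons b t : Fin (n + 1) → Bool) = (if b = false then 1 else 0) + cnt t := by
  unfold cnt
  rw [Fintype.card_subtype, Fintype.card_subtype, Fin.univ_succ, Finset.filter_cons]
  have h : (Finset.filter (fun i => (Fin.cons b t : Fin (n + 1) → Bool) i = false)
      (Finset.map ⟨Fin.succ, Fin.succ_injective n⟩ Finset.univ)).card =
      (Finset.filter (fun i => t i = false) Finset.univ).card := by
    rw [Finset.filter_map, Finset.card_map]
    congr 1
  split_ifs with h1 h2 h2
  · rw [Finset.card_cons, h]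
    omega
  · simp at h1
    exact absurd h1 h2
  · simp at h1
    exact absurd h2 (by simp [h1])
  · rw [h]
    omega

theorem cnt_le {n : ℕ} (t : Fin n → Bool) : cnt t ≤ n := by
  have := Fintype.card_subtype_le (fun i => t i = false)
  simpa [cnt] using this

theorem sum_cons {M : Type*} [AddCommMonoid M] {n : ℕ} (f : (Fin (n + 1) → Bool) → M) :
    ∑ t, f t = ∑ t : Fin n → Bool, f (Fin.cons false t) + ∑ t : Fin n → Bool, f (Fin.cons true t) := by
  rw [← (Fin.consEquiv (fun _ : Fin (n + 1) => Bool)).sum_comp, Fintype.sum_prod_type]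
  rw [Fintype.sum_bool, add_comm]
  rfl

/-- expansion of `ad (x T + y) ^ n (y)` -/
theorem ad_pow_expand (x y : B) (n : ℕ) :
    ((LieAlgebra.ad ℤ B[X] (C x * X + C y)) ^ n) (C y) =
      ∑ t : Fin n → Bool, C (bracketWord (pair x y) y (List.ofFn t)) * X ^ (cnt t) := by
  induction n with
  | zero => simp [cnt]
  | succ n ih =>
    rw [pow_succ', Module.End.mul_apply, ih, map_sum, sum_cons, ← Finset.sum_add_distrib]
    refine Finset.sum_congr rfl fun t _ => ?_
    rw [List.ofFn_cons, List.ofFn_cons, cnt_cons, cnt_cons, bracketWord_cons, bracketWord_cons,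
      LieAlgebra.ad_apply, LieRing.of_associative_ring_bracket]
    simp only [pair, if_true, Bool.true_eq_false, if_false, zero_add, Bool.false_eq_true,
      LieRing.of_associative_ring_bracket, C_sub, C_mul]
    generalize bracketWord (pair x y) y (List.ofFn t) = w
    generalize cnt t = k
    have e1 : C x * X * (C w * X ^ k) = C x * C w * X ^ (1 + k) := by
      rw [mul_assoc, ← mul_assoc X, X_mul_C, mul_assoc, mul_assoc, ← pow_succ', add_comm]
    have e2 : C w * X ^ k * (C x * X) = C w * C x * X ^ (1 + k) := by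
      rw [mul_assoc, ← mul_assoc (X ^ k), X_pow_mul_C, mul_assoc, mul_assoc, ← pow_succ, add_comm]
    have e3 : C w * X ^ k * C y = C w * C y * X ^ k := by
      rw [mul_assoc, X_pow_mul_C, mul_assoc]
    rw [add_mul, mul_add, e1, e2, e3]
    noncomm_ring

omit hp in
theorem natCast_poly_eq_zero (h0 : (p : B) = 0) : ((p : ℕ) : B[X]) = 0 := by
  rw [← map_natCast (C : B →+* B[X]), h0, C_0]

/-- the coefficients of `(x T + y) ^ p` -/
theorem coeff_mul (h0 : (p : B) = 0) (x y : B) (n : ℕ) (hn : 0 < n) :
    (n : B) * ((C x * X + C y) ^ p).coeff n =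
      - ∑ t : Fin (p - 1) → Bool, if cnt t = n then bracketWord (pair x y) y (List.ofFn t) else 0 := by
  set q : B[X] := C x * X + C y with hq
  have hd : derivative q = C x := by
    rw [hq, derivative_add, derivative_C, add_zero, derivative_mul, derivative_C, zero_mul, zero_add,
      derivative_X, mul_one]
  have h1 : derivative (q ^ p) * X = - ((LieAlgebra.ad ℤ B[X] q) ^ (p - 1)) (C y) := by
    have hself : ((LieAlgebra.ad ℤ B[X] q) ^ (p - 1)) q = 0 := by
      have : p - 1 = (p - 2) + 1 := by have := hp.out.two_le; omega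
      rw [this, pow_succ, Module.End.mul_apply, LieAlgebra.ad_apply, lie_self, map_zero]
    have hxX : C x * X = q - C y := by rw [hq, add_sub_cancel_right]
    have h2 : derivative (q ^ p) * X = ((LieAlgebra.ad ℤ B[X] q) ^ (p - 1)) (C x * X) := by
      rw [ad_pow_pred_apply ℤ (natCast_poly_eq_zero h0), derivative_pow_nc, hd, Finset.sum_mul]
      refine Finset.sum_congr rfl fun i _ => ?_
      have : Commute (q ^ (p - 1 - i)) X := (commute_X _).symm
      rw [mul_assoc, this.eq]
      simp only [mul_assoc]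
    rw [h2, hxX, map_sub, hself, zero_sub]
  have h2 : (derivative (q ^ p) * X).coeff n = (n : B) * (q ^ p).coeff n := by
    obtain ⟨m, rfl⟩ : ∃ m, n = m + 1 := ⟨n - 1, by omega⟩
    rw [coeff_mul_X, coeff_derivative, (Nat.cast_commute (m + 1) ((q ^ p).coeff (m + 1))).eq]
    push_cast
    rfl
  rw [← h2, h1, coeff_neg, ad_pow_expand, finsetSum_coeff]
  congr 1
  refine Finset.sum_congr rfl fun t _ => ?_
  rw [coeff_C_mul, coeff_X_pow]
  by_cases h : cnt t = n
  · rw [if_pos h, if_pos h.symm, mul_one]
  · rw [if_neg h, if_neg (fun h' => h h'.symm), mul_zero]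

variable (R)

/-- Jacobson's formula -/
theorem jacobson_formula [CharP R p] (x y : B) :
    (x + y) ^ p = x ^ p + y ^ p - jacobson R p x y := by
  have h0 : (p : B) = 0 := by
    rw [← map_natCast (algebraMap R B), CharP.cast_eq_zero, map_zero]
  set q : B[X] := C x * X + C y with hq
  have hcoef : ∀ n, 0 < n → n < p → (q ^ p).coeff n = - ∑ t : Fin (p - 1) → Bool,
      if cnt t = n then ((ZMod.castHom (dvd_refl p) R) ((cnt t : ZMod p)⁻¹)) •
        bracketWord (pair x y) y (List.ofFn t) else 0 := by
    intro n hn hnp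
    have h1 := coeff_mul h0 x y n hn
    have h2 : ((ZMod.castHom (dvd_refl p) R) ((n : ZMod p)⁻¹)) • ((n : B) * (q ^ p).coeff n) =
        (q ^ p).coeff n := by
      have hnB : (n : B) = algebraMap R B ((ZMod.castHom (dvd_refl p) R) (n : ZMod p)) := by
        rw [map_natCast, map_natCast]
      rw [hnB, ← Algebra.smul_def, smul_smul, ← map_mul, inv_mul_cancel₀, map_one, one_smul]
      intro h
      rw [ZMod.natCast_eq_zero_iff] at h
      exact absurd (Nat.le_of_dvd hn h) (not_le.mpr hnp)
    rw [← h2, h1, smul_neg, Finset.smul_sum]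
    congr 1
    refine Finset.sum_congr rfl fun t _ => ?_
    split_ifs with h
    · rw [h]
    · rw [smul_zero]
  have hdeg : q.natDegree ≤ 1 := by
    rw [hq]
    exact natDegree_linear_le
  have hdegp : (q ^ p).natDegree < p + 1 := by
    refine Nat.lt_succ_of_le ((natDegree_pow_le).trans ?_)
    calc p * q.natDegree ≤ p * 1 := Nat.mul_le_mul_left _ hdeg
      _ = p := mul_one p
  let ev : B[X] →+* B := eval₂RingHom' (RingHom.id B) 1 (fun a => Commute.one_right _)
  have hev : ev (q ^ p) = (x + y) ^ p := by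
    rw [map_pow, hq]
    congr 1
    change eval₂ (RingHom.id B) 1 (C x * X + C y) = x + y
    rw [eval₂_add, eval₂_C, C_mul_X_eq_monomial, eval₂_monomial]
    simp
  have hsum : ev (q ^ p) = ∑ i ∈ Finset.range (p + 1), (q ^ p).coeff i := by
    change eval₂ (RingHom.id B) 1 (q ^ p) = _
    rw [eval₂_eq_sum_range' (RingHom.id B) hdegp]
    refine Finset.sum_congr rfl fun i _ => ?_
    rw [one_pow, mul_one, RingHom.id_apply]
  have hc0 : (q ^ p).coeff 0 = y ^ p := by
    have : (q ^ p).coeff 0 = (q.coeff 0) ^ p := by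
      have := map_pow (constantCoeff : B[X] →+* B) q p
      simpa using this
    rw [this, hq]
    simp
  have hcp : (q ^ p).coeff p = x ^ p := by
    have := coeff_pow_of_natDegree_le (m := p) hdeg
    rw [mul_one] at this
    rw [this, hq]
    simp
  rw [← hev, hsum, Finset.sum_range_succ, hcp]
  obtain ⟨m, hm⟩ : ∃ m, p = m + 1 := ⟨p - 1, (Nat.sub_add_cancel hp.out.one_le).symm⟩
  have hr : ∑ i ∈ Finset.range p, (q ^ p).coeff i =
      ∑ i ∈ Finset.range (p - 1), (q ^ p).coeff (i + 1) + (q ^ p).coeff 0 := by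
    conv_lhs => rw [← Nat.sub_add_cancel hp.out.one_le]
    rw [Finset.sum_range_succ', Nat.sub_add_cancel hp.out.one_le]
  rw [hr, hc0]
  have hJ : ∑ i ∈ Finset.range (p - 1), (q ^ p).coeff (i + 1) = - jacobson R p x y := by
    have : ∑ i ∈ Finset.range (p - 1), (q ^ p).coeff (i + 1) =
        ∑ i ∈ Finset.range (p - 1), - ∑ t : Fin (p - 1) → Bool,
          if cnt t = i + 1 then ((ZMod.castHom (dvd_refl p) R) ((cnt t : ZMod p)⁻¹)) •
        bracketWord (pair x y) y (List.ofFn t) else 0 := by
      refine Finset.sum_congr rfl fun i hi => ?_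
      rw [Finset.mem_range] at hi
      exact hcoef (i + 1) (by omega) (by omega)
    rw [this, Finset.sum_neg_distrib, Finset.sum_comm]
    congr 1
    unfold jacobson
    refine Finset.sum_congr rfl fun t _ => ?_
    change _ = ((ZMod.castHom (dvd_refl p) R) ((cnt t : ZMod p)⁻¹)) •
        bracketWord (pair x y) y (List.ofFn t)
    by_cases h0 : cnt t = 0
    · rw [h0]
      simp
    · have hle := cnt_le t
      rw [Finset.sum_eq_single (cnt t - 1)]
      · rw [if_pos (by omega)]
      · intro b _ hb
        rw [if_neg (by omega)]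
      · intro h
        rw [Finset.mem_range] at h
        omega
  rw [hJ]
  abel

end Assoc

end K796.Jacobson
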