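import Groth.Agent.PLie.K796.Unitri
import Groth.Agent.PLie.K796.Jacobson
import Mathlib.Algebra.Algebra.Subalgebra.Basic

/-!
The central elements `x ^ p - φ(x)` of the enveloping algebra of a `p`-Lie algebra, and the basis of the enveloping
algebra adapted to them.
-/

set_option autoImplicit false
universe u v w

open PLie

namespace K796.Central

open Groth.Agent.S3312 K796.Filt

attribute [local instance] LieRing.ofAssociativeRing

section General

variable {k : Type u} [Field k] {p : ℕ} [hp : Fact p.Prime] [CharP k p]
  {L : Type v} [LieRing L] [LieAlgebra k L] (φ : PMap k p L)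

/-- the central element attached to `x` -/
noncomputable def zc (x : L) : UniversalEnvelopingAlgebra k L :=
  UniversalEnvelopingAlgebra.ι k x ^ p - UniversalEnvelopingAlgebra.ι k (φ x)

theorem cast_eq_zero (k : Type*) [Field k] (p : ℕ) [CharP k p] (A : Type*) [Ring A] [Algebra k A] :
    ((p : ℕ) : A) = 0 := by
  rw [← map_natCast (algebraMap k A), CharP.cast_eq_zero, map_zero]

theorem zc_add (x y : L) : zc φ (x + y) = zc φ x + zc φ y := by
  unfold zc
  have h1 : φ (x + y) = φ x + φ y - jacobson k p x y := φ.map_add x y
  rw [map_add, Jacobson.jacobson_formula k, h1, map_sub, map_add, Words.map_jacobson]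
  abel

omit hp in
theorem zc_smul (c : k) (x : L) : zc φ (c • x) = c ^ p • zc φ x := by
  unfold zc
  have h1 : φ (c • x) = c ^ p • φ x := φ.map_smul c x
  rw [map_smul, smul_pow, h1, map_smul, smul_sub]

theorem commute_zc_ι (x y : L) : Commute (zc φ x) (UniversalEnvelopingAlgebra.ι k y) := by
  have h1 : ∀ (m : ℕ) (y : L), ((LieAlgebra.ad k (UniversalEnvelopingAlgebra k L)
      (UniversalEnvelopingAlgebra.ι k x)) ^ m) (UniversalEnvelopingAlgebra.ι k y) =
      UniversalEnvelopingAlgebra.ι k ((LieAlgebra.ad k L x ^ m) y) := by
    intro m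
    induction m with
    | zero => intro y; rfl
    | succ m ih =>
      intro y
      rw [pow_succ', pow_succ', Module.End.mul_apply, Module.End.mul_apply, ih, LieAlgebra.ad_apply,
        LieAlgebra.ad_apply, LieHom.map_lie]
  have h2 := h1 p y
  rw [Jacobson.ad_pow k (cast_eq_zero k p _), ← φ.ad_map, LieAlgebra.ad_apply, LieAlgebra.ad_apply,
    LieHom.map_lie] at h2
  rw [LieRing.of_associative_ring_bracket, LieRing.of_associative_ring_bracket] at h2
  unfold zc
  change (_ - _) * _ = _ * (_ - _)
  rw [sub_mul, mul_sub]
  have h3 := sub_eq_zero.mpr h2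
  rw [← sub_eq_zero, ← h3]
  change _ - UniversalEnvelopingAlgebra.ι k (φ.toFun x) * _ - _ = _
  abel

variable {n : ℕ} (b : Module.Basis (Fin n) k L)

include b in
theorem commute_zc (x : L) (u : UniversalEnvelopingAlgebra k L) : Commute (zc φ x) u := by
  obtain ⟨m, hm⟩ := iSup_U b u
  refine Submodule.span_induction (p := fun u _ => Commute (zc φ x) u) ?_ ?_ ?_ ?_ hm
  · rintro _ ⟨l, -, rfl⟩
    refine Commute.list_prod_right _ _ fun y hy => ?_
    obtain ⟨i, -, rfl⟩ := List.mem_map.mp hy
    exact commute_zc_ι φ x (b i)
  · exact Commute.zero_right _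
  · intro a c _ _ ha hc
    exact ha.add_right hc
  · intro c a _ ha
    exact ha.smul_right c

/-- the central elements attached to the basis -/
noncomputable def zb (i : Fin n) : UniversalEnvelopingAlgebra k L := zc φ (b i)

/-- the same, in the centre -/
noncomputable def ζ (i : Fin n) : Subalgebra.center k (UniversalEnvelopingAlgebra k L) :=
  ⟨zb φ b i, Subalgebra.mem_center_iff.mpr fun u => ((commute_zc φ b (b i) u).eq).symm⟩

theorem om_zb (β : Fin n → ℕ) : om (zb φ b) β = (om (ζ φ b) β : Subalgebra.center k _) := by
  unfold om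
  rw [← Subalgebra.coe_val, map_list_prod, List.map_map]
  rfl

theorem om_zb_single (i : Fin n) (β : Fin n → ℕ) :
    om (zb φ b) (β + Pi.single i 1) = om (zb φ b) β * zb φ b i := by
  rw [om_zb, om_zb, om_comm, om_comm]
  have h1 : ∏ j, ζ φ b j ^ (β + Pi.single i 1 : Fin n → ℕ) j = (∏ j, ζ φ b j ^ β j) * ζ φ b i := by
    simp only [Pi.add_apply, pow_add, Finset.prod_mul_distrib]
    congr 1
    rw [Finset.prod_eq_single i]
    · simp
    · intro j _ hj
      simp [Pi.single_eq_of_ne hj]
    · intro h
      exact absurd (Finset.mem_univ i) h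
  rw [h1]
  rfl

/-- adapted monomials -/
noncomputable def N (α : Fin n → ℕ) : UniversalEnvelopingAlgebra k L :=
  om (gen b) (fun i => α i % p) * om (zb φ b) (fun i => α i / p)

omit hp in
theorem N_zero : N φ b 0 = 1 := by
  unfold N om
  simp

theorem zb_mem_U (i : Fin n) : zb φ b i ∈ U b p := by
  unfold zb zc
  refine Submodule.sub_mem _ ?_ (ι_mem_U b _ p hp.out.one_le)
  have := pow_mem_U b (ι_mem_U b (b i) 1 le_rfl) p
  rwa [mul_one] at this

theorem prod_zb_mem_U (l : List (Fin n)) : (l.map (zb φ b)).prod ∈ U b (l.length * p) := by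
  induction l with
  | nil => simpa using one_mem_U b 0
  | cons i l ih =>
    rw [List.map_cons, List.prod_cons, List.length_cons, Nat.succ_mul, add_comm]
    exact mul_mem_U b (zb_mem_U φ b i) ih

theorem mon_mul_sub_mem (lq : List (Fin n)) : ∀ (lr : List (Fin n)) (m : ℕ),
    lr.length + lq.length * p ≤ m + 1 →
    mon b lr * (lq.map (zb φ b)).prod - mon b (lr ++ lq.flatMap (List.replicate p)) ∈ U b m := by
  induction lq with
  | nil => intro lr m _; simp
  | cons i lq ih =>
    intro lr m hm
    rw [List.length_cons, Nat.succ_mul] at hm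
    have hp2 := hp.out.two_le
    have h1 := ih (lr ++ List.replicate p i) m (by rw [List.length_append, List.length_replicate]; omega)
    have h2 : mon b lr * ((i :: lq).map (zb φ b)).prod - mon b (lr ++ (i :: lq).flatMap (List.replicate p)) =
        (mon b (lr ++ List.replicate p i) * (lq.map (zb φ b)).prod -
          mon b ((lr ++ List.replicate p i) ++ lq.flatMap (List.replicate p))) -
        mon b lr * UniversalEnvelopingAlgebra.ι k (φ (b i)) * (lq.map (zb φ b)).prod := by
      have h3 : mon b (List.replicate p i) = UniversalEnvelopingAlgebra.ι k (b i) ^ p := by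
        unfold mon
        rw [List.map_replicate, List.prod_replicate]
      rw [List.map_cons, List.prod_cons, List.flatMap_cons, ← List.append_assoc, mon_append b lr, h3]
      unfold zb zc
      noncomm_ring
    rw [h2]
    refine Submodule.sub_mem _ h1 ?_
    refine U_mono b ?_ (mul_mem_U b (mul_mem_U b (mon_mem_U b lr _ le_rfl) (ι_mem_U b _ 1 le_rfl))
      (prod_zb_mem_U φ b lq))
    omega

theorem N_sub_mem (α : Fin n → ℕ) (m : ℕ) (h : ∑ i, α i ≤ m + 1) : N φ b α - om (gen b) α ∈ U b m := by
  set r : Fin n → ℕ := fun i => α i % p with hr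
  set q : Fin n → ℕ := fun i => α i / p with hq
  have hsum : (lst r).length + (lst q).length * p = ∑ i, α i := by
    rw [length_lst, length_lst, Finset.sum_mul, ← Finset.sum_add_distrib]
    refine Finset.sum_congr rfl fun i _ => ?_
    rw [hr, hq]
    exact Nat.mod_add_div' (α i) p
  have h1 := mon_mul_sub_mem φ b (lst q) (lst r) m (by rw [hsum]; exact h)
  have hperm : (lst r ++ (lst q).flatMap (List.replicate p)).Perm (lst α) := by
    rw [perm_lst_iff]
    intro i
    rw [List.count_append, count_lst, List.count_flatMap]
    have h2 : (List.count i ∘ List.replicate p) = fun j => if j = i then p else 0 := by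
      funext j
      simp only [Function.comp_apply, List.count_replicate]
      by_cases h : j = i <;> simp [h]
    have h3 : ∀ l : List (Fin n), (l.map fun j => if j = i then p else 0).sum = l.count i * p := by
      intro l
      induction l with
      | nil => simp
      | cons j l ih =>
        rw [List.map_cons, List.sum_cons, ih, List.count_cons]
        by_cases h : j = i
        · simp [h]; ring
        · simp [h]
    rw [h2, h3, count_lst, hr, hq]
    exact Nat.mod_add_div' (α i) p
  have h4 := perm_sub_mem b hperm m (by rw [hperm.length_eq, length_lst]; exact h)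
  have h5 : N φ b α - om (gen b) α =
      (mon b (lst r) * ((lst q).map (zb φ b)).prod - mon b (lst r ++ (lst q).flatMap (List.replicate p))) +
      (mon b (lst r ++ (lst q).flatMap (List.replicate p)) - mon b (lst α)) := by
    rw [mon_lst, mon_lst, prod_map_lst]
    unfold N
    abel
  rw [h5]
  exact Submodule.add_mem _ h1 h4

/-- the adapted basis of the enveloping algebra -/
noncomputable def adapted : Module.Basis (Fin n → ℕ) k (UniversalEnvelopingAlgebra k L) :=
  Unitri.newBasis b (N φ b) (N_zero φ b) (N_sub_mem φ b)

theorem adapted_apply (α : Fin n → ℕ) : adapted φ b α = N φ b α := Unitri.newBasis_apply _ _ _ _ _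

theorem N_mul_zb (α : Fin n → ℕ) (i : Fin n) : N φ b α * zb φ b i = N φ b (α + Pi.single i p) := by
  unfold N
  have h1 : (fun j => (α + Pi.single i p : Fin n → ℕ) j % p) = fun j => α j % p := by
    funext j
    by_cases h : j = i
    · subst h; simp
    · simp [Pi.single_eq_of_ne h]
  have h2 : (fun j => (α + Pi.single i p : Fin n → ℕ) j / p) = (fun j => α j / p) + Pi.single i 1 := by
    funext j
    by_cases h : j = i
    · subst h; simp [Nat.add_div_right _ hp.out.pos]
    · simp [Pi.single_eq_of_ne h]
  rw [h1, h2, om_zb_single, mul_assoc]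

end General

end K796.Central
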