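import Groth.Agent.PLie.K796.Jacobson
import Groth.Agent.S3312
import Mathlib.Algebra.Algebra.ZMod
import Mathlib.LinearAlgebra.Basis.VectorSpace

/-!
The cocycle identity for Jacobson's polynomial, in every Lie algebra over a commutative ring of characteristic `p`.
-/

set_option autoImplicit false
universe u v w

open PLie

namespace K796.Cocycle

attribute [local instance] LieRing.ofAssociativeRing

/-- Over a field, a Lie algebra embeds in its universal enveloping algebra (PBW). -/
theorem ι_injective (k : Type u) [Field k] (L : Type v) [LieRing L] [LieAlgebra k L] :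
    Function.Injective (UniversalEnvelopingAlgebra.ι k : L → UniversalEnvelopingAlgebra k L) := by
  classical
  let b := Module.Basis.ofVectorSpace k L
  let ι := Module.Basis.ofVectorSpaceIndex k L
  let _ : LinearOrder ι := linearOrderOfSTO WellOrderingRel
  obtain ⟨B, hB⟩ := Groth.Agent.S3312.result k L ι b
  let f : L →ₗ[k] UniversalEnvelopingAlgebra k L := (UniversalEnvelopingAlgebra.ι k : L →ₗ⁅k⁆ _).toLinearMap
  have hs : ∀ i : ι, [i].SortedLE := fun i => (List.pairwise_singleton _ i).sortedLE
  have hf : ∀ i, f (b i) = B ⟨[i], hs i⟩ := by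
    intro i
    rw [hB]
    simp [f]
  change Function.Injective f
  have hli : LinearIndependent k (fun i => f (b i)) := by
    have h2 := B.linearIndependent.comp (fun i : ι => (⟨[i], hs i⟩ : {l : List ι // l.SortedLE}))
      (fun i j h => by
        have := congrArg Subtype.val h
        simpa using this)
    have h3 : (fun i => f (b i)) = B ∘ (fun i : ι => (⟨[i], hs i⟩ : {l : List ι // l.SortedLE})) :=
      funext hf
    rw [h3]
    exact h2
  rw [← LinearMap.ker_eq_bot, LinearMap.ker_eq_bot']
  intro x hx
  rw [← b.linearCombination_repr x, LinearMap.map_finsupp_linearCombination] at hx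
  have := (linearIndependent_iff.mp hli) (b.repr x) hx
  rw [← b.linearCombination_repr x, this, map_zero]

section ZModStr

variable (R : Type u) [CommRing R] (p : ℕ) [CharP R p]
  (L : Type v) [LieRing L] [LieAlgebra R L]

/-- the `ZMod p`-module structure on an `R`-module -/
@[reducible] def zmodModule : Module (ZMod p) L :=
  Module.compHom L (ZMod.castHom (dvd_refl p) R)

/-- the `ZMod p`-Lie algebra structure on an `R`-Lie algebra -/
@[reducible] def zmodLie : LieAlgebra (ZMod p) L :=
  { zmodModule R p L with
    lie_smul := fun c x y => by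
      change ⁅x, (ZMod.castHom (dvd_refl p) R c) • y⁆ = (ZMod.castHom (dvd_refl p) R c) • ⁅x, y⁆
      rw [lie_smul] }

theorem jacobson_zmod (x y : L) :
    @jacobson (ZMod p) _ p _ L _ (zmodLie R p L) x y = jacobson R p x y := by
  unfold jacobson
  refine Finset.sum_congr rfl fun t _ => ?_
  have h : ∀ (c : ZMod p) (z : L), (zmodLie R p L).toModule.toSMul.smul
      (ZMod.castHom (dvd_refl p) (ZMod p) c) z = (ZMod.castHom (dvd_refl p) R c) • z := by
    intro c z
    change (ZMod.castHom (dvd_refl p) R) ((ZMod.castHom (dvd_refl p) (ZMod p)) c) • z = _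
    rw [ZMod.castHom_self, RingHom.id_apply]
  exact h _ _

end ZModStr

section Free

variable (p : ℕ) [hp : Fact p.Prime]

theorem free_cocycle {F : Type v} [LieRing F] [LieAlgebra (ZMod p) F] (x y z : F) :
    jacobson (ZMod p) p x y + jacobson (ZMod p) p (x + y) z =
      jacobson (ZMod p) p y z + jacobson (ZMod p) p x (y + z) := by
  apply ι_injective (ZMod p) F
  let f : F →ₗ⁅ZMod p⁆ UniversalEnvelopingAlgebra (ZMod p) F := UniversalEnvelopingAlgebra.ι (ZMod p)
  change f _ = f _
  simp only [map_add, Words.map_jacobson]
  have h := fun a b : UniversalEnvelopingAlgebra (ZMod p) F => Jacobson.jacobson_formula (ZMod p) (p := p) a b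
  have h' : ∀ a b : UniversalEnvelopingAlgebra (ZMod p) F,
      jacobson (ZMod p) p a b = a ^ p + b ^ p - (a + b) ^ p := by
    intro a b
    rw [h a b]
    abel
  rw [h', h', h', h', add_assoc (f x) (f y) (f z)]
  abel

theorem free_symm {F : Type v} [LieRing F] [LieAlgebra (ZMod p) F] (x y : F) :
    jacobson (ZMod p) p x y = jacobson (ZMod p) p y x := by
  apply ι_injective (ZMod p) F
  let f : F →ₗ⁅ZMod p⁆ UniversalEnvelopingAlgebra (ZMod p) F := UniversalEnvelopingAlgebra.ι (ZMod p)
  change f _ = f _
  simp only [Words.map_jacobson]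
  have h := fun a b : UniversalEnvelopingAlgebra (ZMod p) F => Jacobson.jacobson_formula (ZMod p) (p := p) a b
  have h' : ∀ a b : UniversalEnvelopingAlgebra (ZMod p) F,
      jacobson (ZMod p) p a b = a ^ p + b ^ p - (a + b) ^ p := by
    intro a b
    rw [h a b]
    abel
  rw [h', h', add_comm (f x) (f y), add_comm (f x ^ p)]

end Free

variable (R : Type u) [CommRing R] (p : ℕ) [CharP R p] [hp : Fact p.Prime]
  {L : Type v} [LieRing L] [LieAlgebra R L]

/-- Jacobson's polynomial is a 2-cocycle -/
theorem jacobson_cocycle (x y z : L) :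
    jacobson R p x y + jacobson R p (x + y) z = jacobson R p y z + jacobson R p x (y + z) := by
  let _ := zmodLie R p L
  simp only [← jacobson_zmod R p L]
  exact free_cocycle p x y z

theorem jacobson_symm (x y : L) : jacobson R p x y = jacobson R p y x := by
  let _ := zmodLie R p L
  simp only [← jacobson_zmod R p L]
  exact free_symm p x y

end K796.Cocycle
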