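import Groth.Agent.PLie.K796.Cocycle
import Mathlib.LinearAlgebra.Basis.Defs

/-!
`p`-mappings as `R`-linear sections of a twisted extension; existence and uniqueness of `p`-mappings with
prescribed values on a basis.
-/

set_option autoImplicit false
universe u v w

open PLie

namespace K796.FromBasis

variable (R : Type u) [CommRing R] (p : ℕ) [CharP R p] [hp : Fact p.Prime]
  (L : Type v) [LieRing L] [LieAlgebra R L]

/-- the twisted extension of `L` by its Frobenius twist -/
@[ext] structure Tw (R : Type u) [CommRing R] (p : ℕ) [CharP R p] [Fact p.Prime]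
    (L : Type v) [LieRing L] [LieAlgebra R L] where
  /-- base component -/
  fst : L
  /-- fibre component -/
  snd : L

namespace Tw

variable {R p L}

noncomputable instance : Add (Tw R p L) := ⟨fun a b => ⟨a.fst + b.fst, a.snd + b.snd - jacobson R p a.fst b.fst⟩⟩
instance : Zero (Tw R p L) := ⟨⟨0, 0⟩⟩
instance : Neg (Tw R p L) := ⟨fun a => ⟨-a.fst, -a.snd⟩⟩
instance : SMul R (Tw R p L) := ⟨fun c a => ⟨c • a.fst, c ^ p • a.snd⟩⟩

@[simp] theorem fst_add (a b : Tw R p L) : (a + b).fst = a.fst + b.fst := rfl
@[simp] theorem snd_add (a b : Tw R p L) :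
    (a + b).snd = a.snd + b.snd - jacobson R p a.fst b.fst := rfl
@[simp] theorem fst_zero : (0 : Tw R p L).fst = 0 := rfl
@[simp] theorem snd_zero : (0 : Tw R p L).snd = 0 := rfl
@[simp] theorem fst_neg (a : Tw R p L) : (-a).fst = -a.fst := rfl
@[simp] theorem snd_neg (a : Tw R p L) : (-a).snd = -a.snd := rfl
@[simp] theorem fst_smul (c : R) (a : Tw R p L) : (c • a).fst = c • a.fst := rfl
@[simp] theorem snd_smul (c : R) (a : Tw R p L) : (c • a).snd = c ^ p • a.snd := rfl

noncomputable instance : AddCommGroup (Tw R p L) where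
  add_assoc a b c := by
    ext
    · simp [add_assoc]
    · simp only [fst_add, snd_add]
      have h := Cocycle.jacobson_cocycle R p a.fst b.fst c.fst
      calc _ = a.snd + b.snd + c.snd -
            (jacobson R p a.fst b.fst + jacobson R p (a.fst + b.fst) c.fst) := by abel
        _ = _ := by rw [h]; abel
  zero_add a := by
    ext
    · simp
    · simp [Words.jacobson_zero_left]
  add_zero a := by
    ext
    · simp
    · simp [Words.jacobson_zero_right]
  nsmul := nsmulRec
  zsmul := zsmulRec
  neg_add_cancel a := by
    ext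
    · simp
    · simp only [snd_add, snd_neg, fst_neg, snd_zero]
      rw [Words.jacobson_eq_zero_of_lie_eq_zero R (-a.fst) a.fst (by simp)]
      simp
  add_comm a b := by
    ext
    · simp [add_comm]
    · simp only [snd_add]
      rw [Cocycle.jacobson_symm R p b.fst a.fst, add_comm a.snd]

noncomputable instance : Module R (Tw R p L) where
  one_smul a := by ext <;> simp
  mul_smul c d a := by ext <;> simp [mul_smul, mul_pow]
  smul_zero c := by ext <;> simp
  zero_smul a := by
    ext
    · simp
    · simp [hp.out.ne_zero]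
  smul_add c a b := by
    ext
    · simp
    · simp only [snd_smul, snd_add, fst_smul]
      rw [Words.jacobson_smul, smul_sub, smul_add]
  add_smul c d a := by
    ext
    · simp [add_smul]
    · simp only [snd_smul, snd_add, fst_smul]
      rw [Words.jacobson_smul_self, sub_zero, add_pow_char, add_smul]

end Tw

variable {R p L}

/-- the linear section attached to a `p`-mapping -/
noncomputable def sec (φ : PMap R p L) : L →ₗ[R] Tw R p L where
  toFun x := ⟨x, φ x⟩
  map_add' x y := by
    ext
    · rfl
    · exact φ.map_add x y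
  map_smul' c x := by
    ext
    · rfl
    · exact φ.map_smul c x

/-- the submodule of the pairs `(x, u)` with `ad u = (ad x) ^ p` -/
def good (R : Type u) [CommRing R] (p : ℕ) [CharP R p] [hp : Fact p.Prime]
    (L : Type v) [LieRing L] [LieAlgebra R L] : Submodule R (Tw R p L) where
  carrier := {a | LieAlgebra.ad R L a.snd = LieAlgebra.ad R L a.fst ^ p}
  add_mem' {a b} ha hb := by
    change LieAlgebra.ad R L (a + b).snd = LieAlgebra.ad R L (a + b).fst ^ p
    change LieAlgebra.ad R L a.snd = LieAlgebra.ad R L a.fst ^ p at ha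
    change LieAlgebra.ad R L b.snd = LieAlgebra.ad R L b.fst ^ p at hb
    rw [Tw.snd_add, Tw.fst_add, map_sub, map_add, map_add,
      Jacobson.jacobson_formula R (LieAlgebra.ad R L a.fst) (LieAlgebra.ad R L b.fst), ha, hb,
      Words.map_jacobson]
  zero_mem' := by
    change LieAlgebra.ad R L (0 : Tw R p L).snd = LieAlgebra.ad R L (0 : Tw R p L).fst ^ p
    rw [Tw.snd_zero, Tw.fst_zero, map_zero, zero_pow hp.out.ne_zero]
  smul_mem' c a ha := by
    change LieAlgebra.ad R L (c • a).snd = LieAlgebra.ad R L (c • a).fst ^ p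
    change LieAlgebra.ad R L a.snd = LieAlgebra.ad R L a.fst ^ p at ha
    rw [Tw.snd_smul, Tw.fst_smul, _root_.map_smul, _root_.map_smul, smul_pow, ha]

/-- a `p`-mapping from a linear section with values in `good` -/
noncomputable def ofSec (s : L →ₗ[R] Tw R p L) (h1 : ∀ x, (s x).fst = x) (h2 : ∀ x, s x ∈ good R p L) :
    PMap R p L where
  toFun x := (s x).snd
  map_smul c x := by rw [_root_.map_smul]; rfl
  ad_map x := by
    have := h2 x
    change LieAlgebra.ad R L (s x).snd = LieAlgebra.ad R L (s x).fst ^ p at this
    rw [this, h1]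
  map_add x y := by
    rw [_root_.map_add, Tw.snd_add, h1, h1]

theorem existsUnique_of_basis {ι : Type w} (b : Module.Basis ι R L) (y : ι → L)
    (hy : ∀ i : ι, LieAlgebra.ad R L (b i) ^ p = LieAlgebra.ad R L (y i)) :
    ∃! φ : PMap R p L, ∀ i : ι, φ (b i) = y i := by
  let s : L →ₗ[R] Tw R p L := b.constr ℕ (fun i => ⟨b i, y i⟩)
  have hs : ∀ i, s (b i) = ⟨b i, y i⟩ := fun i => b.constr_basis ℕ _ i
  let fstL : Tw R p L →ₗ[R] L := { toFun := Tw.fst, map_add' := fun _ _ => rfl, map_smul' := fun _ _ => rfl }
  have h1 : ∀ x, (s x).fst = x := by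
    have : fstL ∘ₗ s = LinearMap.id := b.ext fun i => by
      change (s (b i)).fst = b i
      rw [hs]
    exact fun x => LinearMap.congr_fun this x
  have h2 : ∀ x, s x ∈ good R p L := by
    intro x
    rw [← b.linearCombination_repr x, LinearMap.map_finsupp_linearCombination]
    rw [Finsupp.linearCombination_apply, Finsupp.sum]
    refine Submodule.sum_mem _ fun i _ => ?_
    refine Submodule.smul_mem _ _ ?_
    rw [Function.comp_apply, hs]
    exact (hy i).symm
  refine ⟨ofSec s h1 h2, fun i => ?_, fun φ hφ => ?_⟩
  · change (s (b i)).snd = y i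
    rw [hs]
  · have h3 : sec φ = s := b.ext fun i => by
      rw [hs]
      ext
      · rfl
      · exact hφ i
    cases φ with
    | mk f a b' c =>
      have h4 : f = fun x => (s x).snd := by
        funext x
        exact congrArg Tw.snd (LinearMap.congr_fun h3 x)
      subst h4
      rfl

end K796.FromBasis
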