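import Groth.Agent.PLie.K796.Three
import Groth.Agent.PLie.K796.FromBasis
import Mathlib.Algebra.Field.GeomSum
import Mathlib.Algebra.CharP.Two

/-!
First-order deformations: computations with dual numbers.
-/

set_option autoImplicit false
universe u v w

open PLie DualNumber

namespace K796.Deform

variable {K : Type u} [Field K]

omit [Field K] in
theorem dext {x y : DualNumber K} (h1 : TrivSqZeroExt.fst x = TrivSqZeroExt.fst y)
    (h2 : TrivSqZeroExt.snd x = TrivSqZeroExt.snd y) : x = y := TrivSqZeroExt.ext h1 h2

theorem fst_algebraMap (t : K) : TrivSqZeroExt.fst (algebraMap K (DualNumber K) t) = t := rfl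
theorem snd_algebraMap (t : K) : TrivSqZeroExt.snd (algebraMap K (DualNumber K) t) = 0 := rfl

end K796.Deform

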