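import Groth.Agent.PLie.K796.Prim
import Groth.Prelude.Def_CartDual
import Mathlib.RingTheory.Derivation.Lie
import Mathlib.LinearAlgebra.Dual.Lemmas

/-!
The dual Hopf algebra of the restricted enveloping algebra, and its left-invariant derivations.
-/

set_option autoImplicit false
universe u v w

open PLie TensorProduct

namespace K796.DualLie

open K796.Restr K796.Filt K796.HopfRu K796.Prim

variable {k : Type u} [Field k] {p : ℕ} [hp : Fact p.Prime] [CharP k p]
  {L : Type v} [LieRing L] [LieAlgebra k L] (φ : PMap k p L)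

/-- the dual algebra -/
abbrev DA : Type _ := CartDual.D k (Ru φ)

theorem mul_apply (f g : DA φ) (c : Ru φ) :
    (f * g) c = LinearMap.mul' k k (TensorProduct.map f.ofConv g.ofConv (Δ φ c)) := rfl

theorem DA_ext {f g : DA φ} (h : ∀ c : Ru φ, f c = g c) : f = g :=
  WithConv.ext (LinearMap.ext h)

/-- transpose of right multiplication -/
noncomputable def Tr (r : Ru φ) : DA φ →ₗ[k] DA φ where
  toFun f := WithConv.toConv (f.ofConv ∘ₗ LinearMap.mulRight k r)
  map_add' _ _ := rfl
  map_smul' _ _ := rfl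

theorem Tr_apply (r : Ru φ) (f : DA φ) (c : Ru φ) : Tr φ r f c = f (c * r) := rfl

theorem pair_left (f g : DA φ) (x : Ru φ) (t : Ru φ ⊗[k] Ru φ) :
    LinearMap.mul' k k (TensorProduct.map f.ofConv g.ofConv (t * (x ⊗ₜ[k] 1))) =
      LinearMap.mul' k k (TensorProduct.map (Tr φ x f).ofConv g.ofConv t) := by
  induction t using TensorProduct.induction_on with
  | zero => simp
  | tmul a c =>
    rw [Algebra.TensorProduct.tmul_mul_tmul, mul_one]
    rfl
  | add a c ha hc => rw [add_mul, map_add, map_add, ha, hc, map_add, map_add]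

theorem pair_right (f g : DA φ) (x : Ru φ) (t : Ru φ ⊗[k] Ru φ) :
    LinearMap.mul' k k (TensorProduct.map f.ofConv g.ofConv (t * ((1 : Ru φ) ⊗ₜ[k] x))) =
      LinearMap.mul' k k (TensorProduct.map f.ofConv (Tr φ x g).ofConv t) := by
  induction t using TensorProduct.induction_on with
  | zero => simp
  | tmul a c =>
    rw [Algebra.TensorProduct.tmul_mul_tmul, mul_one]
    rfl
  | add a c ha hc => rw [add_mul, map_add, map_add, ha, hc, map_add, map_add]

theorem Tr_mul (x : L) (f g : DA φ) :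
    Tr φ (ιu φ x) (f * g) = f * Tr φ (ιu φ x) g + g * Tr φ (ιu φ x) f := by
  rw [mul_comm g]
  apply DA_ext
  intro c
  change (f * g) (c * ιu φ x) = (f * Tr φ (ιu φ x) g) c + (Tr φ (ιu φ x) f * g) c
  rw [mul_apply, mul_apply, mul_apply, map_mul, Δ_ιu, mul_add, map_add, map_add, pair_left, pair_right,
    add_comm]

/-- the left-invariant derivation attached to an element of the Lie algebra -/
noncomputable def der (x : L) : Derivation k (DA φ) (DA φ) :=
  Derivation.mk' (Tr φ (ιu φ x)) (fun f g => by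
    rw [smul_eq_mul, smul_eq_mul]
    exact Tr_mul φ x f g)

theorem der_apply (x : L) (f : DA φ) (c : Ru φ) : der φ x f c = f (c * ιu φ x) := rfl

/-- the linear map `x ↦ der x` -/
noncomputable def e : L →ₗ[k] Derivation k (DA φ) (DA φ) where
  toFun := der φ
  map_add' x y := by
    ext f : 1
    apply DA_ext
    intro c
    change f (c * ιu φ (x + y)) = f (c * ιu φ x) + f (c * ιu φ y)
    rw [map_add, mul_add]
    exact map_add f.ofConv _ _
  map_smul' a x := by
    ext f : 1
    apply DA_ext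
    intro c
    change f (c * ιu φ (a • x)) = a • f (c * ιu φ x)
    rw [map_smul, mul_smul_comm]
    exact map_smul f.ofConv _ _

theorem e_apply (x : L) (f : DA φ) (c : Ru φ) : e φ x f c = f (c * ιu φ x) := rfl

theorem span_aux (a : Ru φ) :
    a ∈ Submodule.span k ({1} ∪ {w : Ru φ | ∃ (u : Ru φ) (x : L), w = u * ιu φ x}) := by
  induction a using HopfRu.induction with
  | halg c =>
    rw [Algebra.algebraMap_eq_smul_one]
    exact Submodule.smul_mem _ _ (Submodule.subset_span (Or.inl rfl))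
  | hι x => exact Submodule.subset_span (Or.inr ⟨1, x, (one_mul _).symm⟩)
  | hmul a c ha hc =>
    refine Submodule.span_induction (p := fun c _ => a * c ∈ Submodule.span k
      ({1} ∪ {w : Ru φ | ∃ (u : Ru φ) (x : L), w = u * ιu φ x})) ?_ ?_ ?_ ?_ hc
    · rintro w (hw | ⟨u, x, rfl⟩)
      · rw [Set.mem_singleton_iff.mp hw, mul_one]
        exact ha
      · exact Submodule.subset_span (Or.inr ⟨a * u, x, (mul_assoc _ _ _).symm⟩)
    · rw [mul_zero]; exact zero_mem _
    · intro x y _ _ hx hy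
      rw [mul_add]; exact add_mem hx hy
    · intro c x _ hx
      rw [mul_smul_comm]; exact Submodule.smul_mem _ _ hx
  | hadd a c ha hc => exact add_mem ha hc

theorem one_apply (c : Ru φ) : (1 : DA φ) c = ε φ c := rfl

theorem mul_apply_one (f g : DA φ) : (f * g) 1 = f 1 * g 1 := by
  rw [mul_apply, map_one, Algebra.TensorProduct.one_def]
  rfl

theorem pow_apply_one (f : DA φ) (m : ℕ) : (f ^ m) 1 = (f 1) ^ m := by
  induction m with
  | zero =>
    rw [pow_zero, pow_zero, one_apply, map_one]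
  | succ m ih => rw [pow_succ, pow_succ, mul_apply_one, ih]

theorem pow_p_eq_zero (f : DA φ) (hf : f 1 = 0) : f ^ p = 0 := by
  apply DA_ext
  intro c
  change (f ^ p).ofConv c = 0
  have h := span_aux φ c
  refine Submodule.span_induction (p := fun c _ => (f ^ p).ofConv c = 0) ?_ ?_ ?_ ?_ h
  · rintro w (hw | ⟨u, x, rfl⟩)
    · rw [Set.mem_singleton_iff.mp hw]
      change (f ^ p) 1 = 0
      rw [pow_apply_one, hf, zero_pow hp.out.ne_zero]
    · have h1 : der φ x (f ^ p) = 0 := by
        rw [Derivation.leibniz_pow]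
        rw [← Nat.cast_smul_eq_nsmul k, CharP.cast_eq_zero, zero_smul]
      have h2 : der φ x (f ^ p) u = (f ^ p) (u * ιu φ x) := rfl
      rw [h1] at h2
      exact h2.symm
  · exact map_zero _
  · intro x y _ _ hx hy
    rw [map_add, hx, hy, add_zero]
  · intro a x _ hx
    rw [map_smul, hx, smul_zero]

theorem e_lie (x y : L) : e φ ⁅x, y⁆ = ⁅e φ x, e φ y⁆ := by
  ext f : 1
  apply DA_ext
  intro c
  rw [Derivation.commutator_apply]
  change f.ofConv (c * ιu φ ⁅x, y⁆) = f.ofConv (c * ιu φ x * ιu φ y) - f.ofConv (c * ιu φ y * ιu φ x)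
  rw [ιu_lie, ← map_sub, mul_sub, mul_assoc, mul_assoc]

theorem e_pow_apply (x : L) (m : ℕ) (f : DA φ) (c : Ru φ) :
    (((e φ x).toLinearMap ^ m) f) c = f (c * ιu φ x ^ m) := by
  induction m generalizing f with
  | zero => rw [pow_zero, pow_zero, mul_one]; rfl
  | succ m ih =>
    rw [pow_succ, Module.End.mul_apply, ih]
    change f (c * ιu φ x ^ m * ιu φ x) = _
    rw [mul_assoc, ← pow_succ]

theorem e_pmap (x : L) : (e φ (φ x)).toLinearMap = (e φ x).toLinearMap ^ p := by
  apply LinearMap.ext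
  intro f
  apply DA_ext
  intro c
  rw [e_pow_apply, ← ιu_pmap]
  rfl

theorem e_injective [Module.Finite k L] : Function.Injective (e φ) := by
  intro x' y' hxy
  rw [← sub_eq_zero]
  obtain ⟨x, hx0⟩ : ∃ x, x = x' - y' := ⟨_, rfl⟩
  have hx : e φ x = 0 := by rw [hx0, map_sub, hxy, sub_self]
  rw [← hx0]
  apply ιu_injective φ
  rw [map_zero, ← Module.forall_dual_apply_eq_zero_iff k]
  intro f
  have h1 : e φ x (WithConv.toConv f) 1 = 0 := by
    rw [hx]
    rfl
  rw [e_apply, one_mul] at h1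
  exact h1

section Fin

variable [Module.Finite k (Ru φ)]

theorem ev₂_lTensor (T : DA φ →ₗ[k] DA φ) (r : Ru φ) (hT : ∀ (f : DA φ) (c : Ru φ), T f c = f (c * r))
    (t : DA φ ⊗[k] DA φ) (a c : Ru φ) :
    CartDual.ev₂ k (Ru φ) (LinearMap.lTensor (DA φ) T t) (a ⊗ₜ[k] c) =
      CartDual.ev₂ k (Ru φ) t (a ⊗ₜ[k] (c * r)) := by
  induction t using TensorProduct.induction_on with
  | zero => simp
  | tmul f g => rw [LinearMap.lTensor_tmul, CartDual.ev₂_tmul, CartDual.ev₂_tmul, hT]
  | add f g hf hg => rw [map_add, map_add, LinearMap.add_apply, hf, hg, map_add, LinearMap.add_apply]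

theorem leftInv (T : DA φ →ₗ[k] DA φ) (r : Ru φ) (hT : ∀ (f : DA φ) (c : Ru φ), T f c = f (c * r)) :
    CoalgebraStruct.comul (R := k) (A := DA φ) ∘ₗ T =
      LinearMap.lTensor (DA φ) T ∘ₗ CoalgebraStruct.comul (R := k) (A := DA φ) := by
  apply LinearMap.ext
  intro f
  apply (CartDual.ev₂ k (Ru φ)).injective
  apply TensorProduct.ext'
  intro a c
  rw [LinearMap.comp_apply, LinearMap.comp_apply]
  have h1 := CartDual.ev₂_coalgebra_comul_tmul k (Ru φ) (T f) a c
  have h2 := CartDual.ev₂_coalgebra_comul_tmul k (Ru φ) f a (c * r)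
  have h3 := ev₂_lTensor φ T r hT (CoalgebraStruct.comul (R := k) f) a c
  rw [h3]
  refine h1.trans ?_
  rw [hT, mul_assoc]
  exact h2.symm

theorem eq_zero_of_forall_pair (t : Ru φ ⊗[k] Ru φ)
    (h : ∀ f g : DA φ, LinearMap.mul' k k (TensorProduct.map f.ofConv g.ofConv t) = 0) : t = 0 := by
  rw [← Module.forall_dual_apply_eq_zero_iff k]
  intro F
  obtain ⟨y, rfl⟩ := (CartDual.ev₂ k (Ru φ)).surjective F
  induction y using TensorProduct.induction_on with
  | zero => rw [map_zero, LinearMap.zero_apply]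
  | tmul f g =>
    rw [CartDual.ev₂_tmul_eq']
    exact h f g
  | add f g hf hg => rw [map_add, LinearMap.add_apply, hf, hg, add_zero]

theorem exists_of_leftInv [Module.Finite k L] (D : Derivation k (DA φ) (DA φ))
    (hD : CoalgebraStruct.comul (R := k) (A := DA φ) ∘ₗ D.toLinearMap =
      LinearMap.lTensor (DA φ) D.toLinearMap ∘ₗ CoalgebraStruct.comul (R := k) (A := DA φ)) :
    ∃ x : L, e φ x = D := by
  -- the functional `f ↦ (D f)(1)` is evaluation at some `r`
  let δ : Module.Dual k (Module.Dual k (Ru φ)) :=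
    (LinearMap.applyₗ (1 : Ru φ)) ∘ₗ (CartDual.toDual k (Ru φ)).toLinearMap ∘ₗ D.toLinearMap ∘ₗ
      (CartDual.toDual k (Ru φ)).symm.toLinearMap
  let r : Ru φ := (Module.evalEquiv k (Ru φ)).symm δ
  have hr : ∀ f : DA φ, D f 1 = f r := by
    intro f
    have := Module.apply_evalEquiv_symm_apply (R := k) (M := Ru φ) f.ofConv δ
    exact this.symm
  have hDr : ∀ (f : DA φ) (c : Ru φ), D f c = f (c * r) := by
    intro f c
    have h1 := CartDual.ev₂_coalgebra_comul_tmul k (Ru φ) (D f) c 1
    rw [mul_one] at h1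
    rw [← h1]
    have h2 : Coalgebra.comul (R := k) (D f) = LinearMap.lTensor (DA φ) D.toLinearMap
        (CoalgebraStruct.comul (R := k) f) := LinearMap.congr_fun hD f
    rw [h2]
    have h3 : ∀ t : DA φ ⊗[k] DA φ, CartDual.ev₂ k (Ru φ) (LinearMap.lTensor (DA φ) D.toLinearMap t)
        (c ⊗ₜ[k] 1) = CartDual.ev₂ k (Ru φ) t (c ⊗ₜ[k] r) := by
      intro t
      induction t using TensorProduct.induction_on with
      | zero => simp
      | tmul f g =>
        rw [LinearMap.lTensor_tmul, CartDual.ev₂_tmul, CartDual.ev₂_tmul]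
        congr 1
        exact hr g
      | add f g hf hg => rw [map_add, map_add, LinearMap.add_apply, hf, hg, map_add, LinearMap.add_apply]
    rw [h3]
    exact CartDual.ev₂_coalgebra_comul_tmul k (Ru φ) f c r
  have hprim : Δ φ r = r ⊗ₜ[k] 1 + 1 ⊗ₜ[k] r := by
    rw [← sub_eq_zero]
    apply eq_zero_of_forall_pair
    intro f g
    rw [map_sub, map_sub, map_add, map_add, ← mul_apply]
    have h1 : (f * g) r = D (f * g) 1 := (hr _).symm
    have h2 : D (f * g) = f * D g + g * D f := by
      rw [D.leibniz, smul_eq_mul, smul_eq_mul]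
    have h3 : (f * D g + g * D f) 1 = (f * D g) 1 + (g * D f) 1 := rfl
    rw [h1, h2, h3, mul_apply_one, mul_apply_one, hr, hr]
    change f 1 * g r + g 1 * f r - (f r * g 1 + f 1 * g r) = 0
    ring
  obtain ⟨x, hx⟩ := mem_range_of_prim φ r hprim
  refine ⟨x, ?_⟩
  ext f : 1
  apply DA_ext
  intro c
  rw [e_apply, hx, hDr]

end Fin

end K796.DualLie
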