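import Groth.Agent.PLie.K796.Filt
import Mathlib.Data.Nat.Choose.Sum
import Mathlib.Tactic.Ring

/-!
Expansion of ordered monomials in sums of commuting families.
-/

set_option autoImplicit false
universe u v w

namespace K796.Expand

open K796.Filt

theorem om_succ {M : Type*} [Monoid M] {n : ℕ} (y : Fin (n + 1) → M) (α : Fin (n + 1) → ℕ) :
    om y α = y 0 ^ α 0 * om (fun i => y i.succ) (fun i => α i.succ) := by
  unfold om
  rw [List.finRange_succ, List.map_cons, List.prod_cons, List.map_map]
  rfl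

theorem commute_om {M : Type*} [Monoid M] {n : ℕ} (c : M) (y : Fin n → M) (h : ∀ i, Commute c (y i))
    (α : Fin n → ℕ) : Commute c (om y α) := by
  unfold om
  refine Commute.list_prod_right _ _ fun x hx => ?_
  obtain ⟨i, -, rfl⟩ := List.mem_map.mp hx
  exact (h i).pow_right _

theorem om_add {A : Type*} [Semiring A] : ∀ (n : ℕ) (y z : Fin n → A) (_ : ∀ i j, Commute (y i) (z j))
    (α : Fin n → ℕ), om (fun i => y i + z i) α =
      ∑ β : (i : Fin n) → Fin (α i + 1), ((∏ i, (α i).choose (β i) : ℕ) : A) *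
        (om y (fun i => (β i : ℕ)) * om z (fun i => α i - β i)) := by
  intro n
  induction n with
  | zero =>
    intro y z _ α
    simp [om]
  | succ n ih =>
    intro y z hyz α
    rw [om_succ, ih _ _ (fun i j => hyz i.succ j.succ), (hyz 0 0).add_pow,
      ← (Fin.consEquiv (fun i => Fin (α i + 1))).sum_comp, Fintype.sum_prod_type, Finset.sum_mul,
      Finset.sum_range]
    refine Finset.sum_congr rfl fun j _ => ?_
    rw [Finset.mul_sum]
    refine Finset.sum_congr rfl fun β _ => ?_
    rw [Fin.prod_univ_succ, om_succ, om_succ]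
    change y 0 ^ (j : ℕ) * z 0 ^ (α 0 - j) * ((α 0).choose j : A) *
      (((∏ i, (α i.succ).choose (β i) : ℕ) : A) *
        (om (fun i => y i.succ) (fun i => (β i : ℕ)) * om (fun i => z i.succ) (fun i => α i.succ - β i))) =
      ((((α 0).choose j) * (∏ i, (α i.succ).choose (β i)) : ℕ) : A) *
      ((y 0 ^ (j : ℕ) * om (fun i => y i.succ) (fun i => (β i : ℕ))) *
        (z 0 ^ (α 0 - j) * om (fun i => z i.succ) (fun i => α i.succ - β i)))
    generalize ((∏ i, (α i.succ).choose (β i) : ℕ)) = c
    generalize (α 0).choose j = d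
    have h1 : Commute (z 0 ^ (α 0 - (j : ℕ))) (om (fun i => y i.succ) (fun i => (β i : ℕ))) :=
      commute_om _ _ (fun i => ((hyz i.succ 0).symm).pow_left _) _
    generalize om (fun i => y i.succ) (fun i => (β i : ℕ)) = Y at *
    generalize om (fun i => z i.succ) (fun i => α i.succ - (β i : ℕ)) = Z
    generalize z 0 ^ (α 0 - (j : ℕ)) = z0 at *
    generalize y 0 ^ (j : ℕ) = y0
    rw [Nat.cast_mul]
    have e1 : (d : A) * ((c : A) * (Y * Z)) = ((d : A) * c) * (Y * Z) := by rw [mul_assoc]
    calc y0 * z0 * (d : A) * ((c : A) * (Y * Z)) = y0 * z0 * ((d : A) * ((c : A) * (Y * Z))) := by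
          rw [mul_assoc]
      _ = y0 * z0 * (((d * c : ℕ) : A) * (Y * Z)) := by rw [e1, Nat.cast_mul]
      _ = ((d * c : ℕ) : A) * (y0 * z0 * (Y * Z)) := by
          rw [← mul_assoc, ← Nat.cast_comm, mul_assoc]
      _ = (d : A) * (c : A) * (y0 * Y * (z0 * Z)) := by
          rw [Nat.cast_mul]
          congr 1
          rw [mul_assoc, mul_assoc, ← mul_assoc z0, h1.eq, mul_assoc]

end K796.Expand
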