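import Groth.Agent.S3312
import Mathlib.Data.List.FinRange
import Mathlib.Algebra.BigOperators.Group.List.Basic
import Mathlib.Algebra.BigOperators.Fin

/-!
Exponent form of the PBW basis of the universal enveloping algebra of a finite-dimensional Lie algebra, and the
filtration by degree.
-/

set_option autoImplicit false
universe u v w

namespace K796.Filt

section Lists

variable {n : ℕ}

/-- ordered monomial in a monoid -/
def om {M : Type*} [Monoid M] (y : Fin n → M) (α : Fin n → ℕ) : M :=
  ((List.finRange n).map fun i => y i ^ α i).prod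

/-- the sorted list with prescribed multiplicities -/
def lst (α : Fin n → ℕ) : List (Fin n) :=
  (List.finRange n).flatMap fun i => List.replicate (α i) i

theorem sum_map_finRange {M : Type*} [AddCommMonoid M] (f : Fin n → M) :
    ((List.finRange n).map f).sum = ∑ i, f i := by
  rw [← List.ofFn_eq_map, List.sum_ofFn]

theorem prod_map_finRange {M : Type*} [CommMonoid M] (f : Fin n → M) :
    ((List.finRange n).map f).prod = ∏ i, f i := by
  rw [← List.ofFn_eq_map, List.prod_ofFn]

theorem count_lst (α : Fin n → ℕ) (i : Fin n) : (lst α).count i = α i := by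
  unfold lst
  rw [List.count_flatMap]
  have h1 : (List.count i ∘ fun j => List.replicate (α j) j) = fun j => if i = j then α j else 0 := by
    funext j
    simp only [Function.comp_apply, List.count_replicate]
    by_cases h : i = j
    · simp [h]
    · have : ¬ (j = i) := fun h' => h h'.symm
      simp [h, this]
  rw [h1, sum_map_finRange, Finset.sum_ite_eq]
  simp

theorem length_lst (α : Fin n → ℕ) : (lst α).length = ∑ i, α i := by
  unfold lst
  rw [List.length_flatMap]
  simp only [List.length_replicate]
  exact sum_map_finRange _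

theorem sorted_lst (α : Fin n → ℕ) : (lst α).SortedLE := by
  unfold lst
  rw [List.sortedLE_iff_pairwise, List.pairwise_flatMap]
  refine ⟨fun i _ => ?_, ?_⟩
  · exact List.pairwise_replicate.mpr (Or.inr le_rfl)
  · refine (List.pairwise_lt_finRange n).imp ?_
    intro i j hij a ha b hb
    rw [List.eq_of_mem_replicate ha, List.eq_of_mem_replicate hb]
    exact hij.le

theorem perm_lst_iff (l : List (Fin n)) (α : Fin n → ℕ) : l.Perm (lst α) ↔ ∀ i, l.count i = α i := by
  rw [List.perm_iff_count]
  simp only [count_lst]

theorem prod_map_lst {M : Type*} [Monoid M] (y : Fin n → M) (α : Fin n → ℕ) :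
    ((lst α).map y).prod = om y α := by
  unfold lst om
  generalize List.finRange n = l
  induction l with
  | nil => simp
  | cons i l ih =>
    rw [List.flatMap_cons, List.map_append, List.prod_append, ih, List.map_cons, List.prod_cons]
    simp

theorem om_comm {M : Type*} [CommMonoid M] (y : Fin n → M) (α : Fin n → ℕ) : om y α = ∏ i, y i ^ α i :=
  prod_map_finRange _

end Lists

section PBW

open Groth.Agent.S3312

variable {k : Type u} [Field k] {L : Type v} [LieRing L] [LieAlgebra k L] {n : ℕ}
  (b : Module.Basis (Fin n) k L)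

/-- exponent vectors and sorted lists -/
def expEquiv (n : ℕ) : (Fin n → ℕ) ≃ {l : List (Fin n) // l.SortedLE} where
  toFun α := ⟨lst α, sorted_lst α⟩
  invFun l := fun i => l.1.count i
  left_inv α := funext fun i => count_lst α i
  right_inv l := by
    apply Subtype.ext
    have h : l.1.Perm (lst fun i => l.1.count i) := (perm_lst_iff _ _).mpr fun i => rfl
    exact (h.symm.eq_of_sortedLE (sorted_lst _) l.2)

/-- the image of a basis vector in the enveloping algebra -/
noncomputable def gen (i : Fin n) : UniversalEnvelopingAlgebra k L := UniversalEnvelopingAlgebra.ι k (b i)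

theorem mon_eq (l : List (Fin n)) : mon b l = (l.map (gen b)).prod := rfl

theorem mon_lst (α : Fin n → ℕ) : mon b (lst α) = om (gen b) α := prod_map_lst _ _

theorem mon_append (l l' : List (Fin n)) : mon b (l ++ l') = mon b l * mon b l' := by
  rw [mon_eq, List.map_append, List.prod_append]
  rfl

/-- the PBW basis in exponent form -/
noncomputable def pbw : Module.Basis (Fin n → ℕ) k (UniversalEnvelopingAlgebra k L) :=
  (Groth.Agent.S3312.result k L (Fin n) b).choose.reindex (expEquiv n).symm

theorem pbw_apply (α : Fin n → ℕ) : pbw b α = om (gen b) α := by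
  unfold pbw
  rw [Module.Basis.reindex_apply, (Groth.Agent.S3312.result k L (Fin n) b).choose_spec, ← mon_lst]
  rfl

theorem one_mem_U (m : ℕ) : (1 : UniversalEnvelopingAlgebra k L) ∈ U b m :=
  Submodule.subset_span ⟨[], Nat.zero_le _, rfl⟩

theorem mon_mem_U (l : List (Fin n)) (m : ℕ) (h : l.length ≤ m) : mon b l ∈ U b m :=
  Submodule.subset_span ⟨l, h, rfl⟩

theorem ι_mem_U (x : L) (m : ℕ) (hm : 1 ≤ m) : UniversalEnvelopingAlgebra.ι k x ∈ U b m := by
  have := ι_mul_mem b x 0 1 (one_mem_U b 0)
  rw [mul_one] at this
  exact U_mono b hm this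

theorem mul_mem_U {m m' : ℕ} {u v : UniversalEnvelopingAlgebra k L} (hu : u ∈ U b m) (hv : v ∈ U b m') :
    u * v ∈ U b (m + m') := by
  have h1 : ∀ l : List (Fin n), mon b l * v ∈ U b (l.length + m') := by
    intro l
    induction l with
    | nil => simpa [mon] using hv
    | cons i l ih =>
      rw [mon_cons, mul_assoc, List.length_cons]
      have := ι_mul_mem b (b i) _ _ ih
      rwa [Nat.add_right_comm] at this
  refine Submodule.span_induction (p := fun u _ => u * v ∈ U b (m + m')) ?_ ?_ ?_ ?_ hu
  · rintro _ ⟨l, hl, rfl⟩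
    exact U_mono b (Nat.add_le_add_right hl _) (h1 l)
  · simp
  · intro x y _ _ hx hy
    rw [add_mul]; exact Submodule.add_mem _ hx hy
  · intro a x _ hx
    rw [smul_mul_assoc]; exact Submodule.smul_mem _ _ hx

theorem pow_mem_U {m : ℕ} {u : UniversalEnvelopingAlgebra k L} (hu : u ∈ U b m) (j : ℕ) :
    u ^ j ∈ U b (j * m) := by
  induction j with
  | zero => rw [pow_zero, zero_mul]; exact one_mem_U b 0
  | succ j ih =>
    rw [pow_succ, Nat.succ_mul]
    exact mul_mem_U b ih hu

/-- `U b m` is spanned by the ordered monomials of degree at most `m` -/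
theorem U_le_span_om (m : ℕ) : U b m ≤ Submodule.span k {v | ∃ α : Fin n → ℕ, ∑ i, α i ≤ m ∧ v = om (gen b) α} := by
  induction m with
  | zero =>
    apply Submodule.span_le.mpr
    rintro _ ⟨l, hl, rfl⟩
    have : l = [] := List.length_eq_zero_iff.mp (by omega)
    subst this
    refine Submodule.subset_span ⟨0, by simp, ?_⟩
    simp [mon, om]
  | succ m ih =>
    apply Submodule.span_le.mpr
    rintro _ ⟨l, hl, rfl⟩
    have hp : l.Perm (lst fun i => l.count i) := (perm_lst_iff _ _).mpr fun i => rfl
    have h1 := ih (perm_sub_mem b hp m hl)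
    have h2 : mon b l = (mon b l - mon b (lst fun i => l.count i)) +
      mon b (lst fun i => l.count i) := by abel
    rw [SetLike.mem_coe, h2]
    refine Submodule.add_mem _ (Submodule.span_mono ?_ h1) (Submodule.subset_span ⟨_, ?_, mon_lst b _⟩)
    · rintro v ⟨α, hα, rfl⟩
      exact ⟨α, by omega, rfl⟩
    · rw [← length_lst, ← hp.length_eq]
      exact hl

theorem om_mem_U (α : Fin n → ℕ) (m : ℕ) (h : ∑ i, α i ≤ m) : om (gen b) α ∈ U b m := by
  rw [← mon_lst]
  exact mon_mem_U b _ _ (by rw [length_lst]; exact h)

end PBW

end K796.Filt
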