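import Groth.Agent.PLie.K796.Deform

/-!
The restrictability criterion for the first-order deformations of the Heisenberg algebra.
-/

set_option autoImplicit false
universe u v w

open PLie DualNumber K796.Three K796.Deform

namespace K796.H3

theorem main (K : Type u) [Field K] (p : ℕ) [Fact p.Prime] [CharP K p]
    [CharP (DualNumber K) p] (a b c d e f g h i : K)
    (L : Type v) [LieRing L] [LieAlgebra (DualNumber K) L] (bs : Module.Basis (Fin 3) (DualNumber K) L)
    (hxy : ⁅bs 0, bs 1⁆ = (a • ε : DualNumber K) • bs 0 + (b • ε : DualNumber K) • bs 1 + (c • ε : DualNumber K) • bs 2)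
    (hxz : ⁅bs 0, bs 2⁆ = (d • ε : DualNumber K) • bs 0 + (e • ε : DualNumber K) • bs 1 + (f • ε : DualNumber K) • bs 2)
    (hyz : ⁅bs 1, bs 2⁆ = (1 + g • ε : DualNumber K) • bs 0 + (h • ε : DualNumber K) • bs 1 + (i • ε : DualNumber K) • bs 2) :
    Nonempty (PLie.PMap (DualNumber K) p L) ↔ (p = 2 → b = 0 ∧ c = 0 ∧ e = 0) := by
  have hp := (Fact.out : p.Prime)
  have hp2 := hp.two_le
  change ⁅bs 0, bs 1⁆ = comb bs _ _ _ at hxy
  change ⁅bs 0, bs 2⁆ = comb bs _ _ _ at hxz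
  change ⁅bs 1, bs 2⁆ = comb bs _ _ _ at hyz
  have hlie := lie_comb bs hxy hxz hyz
  -- Jacobi
  have hJ := leibniz_lie (bs 0) (bs 1) (bs 2)
  rw [hxy, hxz, hyz, comb_x bs, comb_y bs, comb_z bs, hlie, hlie, hlie, comb_add, comb_inj] at hJ
  obtain ⟨hJ0, hJ1, hJ2⟩ := hJ
  replace hJ0 := congrArg TrivSqZeroExt.snd hJ0
  simp at hJ0
  have hX : ∀ r0 r1 r2 : DualNumber K, ⁅bs 0, comb bs r0 r1 r2⁆ = comb bs
      (r1 * (a • ε) + r2 * (d • ε)) (r1 * (b • ε) + r2 * (e • ε))
      (r1 * (c • ε) + r2 * (f • ε)) := fun r0 r1 r2 => by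
    rw [comb_x bs, hlie, comb_inj]
    refine ⟨by ring, by ring, by ring⟩
  have hY : ∀ r0 r1 r2 : DualNumber K, ⁅bs 1, comb bs r0 r1 r2⁆ = comb bs
      (r2 * (1 + g • ε) - r0 * (a • ε)) (r2 * (h • ε) - r0 * (b • ε))
      (r2 * (i • ε) - r0 * (c • ε)) := fun r0 r1 r2 => by
    rw [comb_y bs, hlie, comb_inj]
    refine ⟨by ring, by ring, by ring⟩
  have hZ : ∀ r0 r1 r2 : DualNumber K, ⁅bs 2, comb bs r0 r1 r2⁆ = comb bs
      (- (r0 * (d • ε) + r1 * (1 + g • ε))) (- (r0 * (e • ε) + r1 * (h • ε)))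
      (- (r0 * (f • ε) + r1 * (i • ε))) := fun r0 r1 r2 => by
    rw [comb_z bs, hlie, comb_inj]
    refine ⟨by ring, by ring, by ring⟩
  have hsq : ∀ u v : L, (LieAlgebra.ad (DualNumber K) L u ^ 2) v = ⁅u, ⁅u, v⁆⁆ := fun a c => by
    rw [pow_two, Module.End.mul_apply, LieAlgebra.ad_apply, LieAlgebra.ad_apply]
  have hcu : ∀ u v : L, (LieAlgebra.ad (DualNumber K) L u ^ 3) v = ⁅u, ⁅u, ⁅u, v⁆⁆⁆ := fun u v => by
    rw [pow_succ', Module.End.mul_apply, hsq, LieAlgebra.ad_apply]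
  have hqu : ∀ u v : L, (LieAlgebra.ad (DualNumber K) L u ^ 4) v = ⁅u, ⁅u, ⁅u, ⁅u, v⁆⁆⁆⁆ := fun u v => by
    rw [pow_succ', Module.End.mul_apply, hcu, LieAlgebra.ad_apply]
  constructor
  · rintro ⟨φ⟩ rfl
    obtain ⟨v0, v1, v2, hv⟩ := exists_comb bs (φ (bs 1))
    have k2 : ⁅φ (bs 1), bs 2⁆ = ⁅bs 1, ⁅bs 1, bs 2⁆⁆ := by
      rw [← LieAlgebra.ad_apply (DualNumber K), φ.ad_map, hsq]
    have k3 : ⁅φ (bs 1), bs 0⁆ = ⁅bs 1, ⁅bs 1, bs 0⁆⁆ := by
      rw [← LieAlgebra.ad_apply (DualNumber K), φ.ad_map, hsq]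
    have k1 : ⁅φ (bs 1), bs 1⁆ = 0 := by
      rw [← LieAlgebra.ad_apply (DualNumber K), φ.ad_map, hsq, lie_self, lie_zero]
    rw [hv, comb_y bs, hlie, comb_zero bs, comb_inj] at k1
    rw [hv, comb_z bs, hY, hY, hlie, comb_inj] at k2
    rw [hv, comb_x bs, hY, hY, hlie, comb_inj] at k3
    obtain ⟨k10, k11, k12⟩ := k1
    obtain ⟨k20, k21, k22⟩ := k2
    obtain ⟨k30, k31, k32⟩ := k3
    have l10 := congrArg TrivSqZeroExt.fst k10
    have l20 := congrArg TrivSqZeroExt.fst k20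
    have l11 := congrArg TrivSqZeroExt.snd k11
    have l21 := congrArg TrivSqZeroExt.snd k21
    have l30 := congrArg TrivSqZeroExt.snd k30
    simp at l10 l20 l11 l21 l30
    obtain ⟨w0, w1, w2, hw⟩ := exists_comb bs (φ (bs 2))
    have m1 : ⁅φ (bs 2), bs 1⁆ = ⁅bs 2, ⁅bs 2, bs 1⁆⁆ := by
      rw [← LieAlgebra.ad_apply (DualNumber K), φ.ad_map, hsq]
    have m0 : ⁅φ (bs 2), bs 0⁆ = ⁅bs 2, ⁅bs 2, bs 0⁆⁆ := by
      rw [← LieAlgebra.ad_apply (DualNumber K), φ.ad_map, hsq]
    have m2 : ⁅φ (bs 2), bs 2⁆ = 0 := by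
      rw [← LieAlgebra.ad_apply (DualNumber K), φ.ad_map, hsq, lie_self, lie_zero]
    rw [hw, comb_y bs, hZ, hZ, hlie, comb_inj] at m1
    rw [hw, comb_z bs, hlie, comb_zero bs, comb_inj] at m2
    rw [hw, comb_x bs, hZ, hZ, hlie, comb_inj] at m0
    obtain ⟨m10, m11, m12⟩ := m1
    obtain ⟨m20, m21, m22⟩ := m2
    obtain ⟨m00, m01, m02⟩ := m0
    have n10 := congrArg TrivSqZeroExt.fst m10
    have n20 := congrArg TrivSqZeroExt.fst m20
    have n00 := congrArg TrivSqZeroExt.snd m00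
    simp at n10 n20 n00
    rw [l10] at l11 l30
    rw [l20] at l21 l30
    rw [n10, n20] at n00
    have hb2 : b * b = 0 := by linear_combination b * l21 - e * l11
    exact ⟨mul_self_eq_zero.mp hb2, by linear_combination l30, by linear_combination -n00⟩
  · intro hcond
    have hX2 : LieAlgebra.ad (DualNumber K) L (bs 0) ^ 2 = 0 := by
      apply ext_comb bs
      · rw [hsq, lie_self, lie_zero, LinearMap.zero_apply]
      · rw [hsq, LinearMap.zero_apply, comb_y bs, hX, hX, comb_zero bs, comb_inj]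
        refine ⟨?_, ?_, ?_⟩ <;> apply dext <;> simp
      · rw [hsq, LinearMap.zero_apply, comb_z bs, hX, hX, comb_zero bs, comb_inj]
        refine ⟨?_, ?_, ?_⟩ <;> apply dext <;> simp
    have hY0 : LieAlgebra.ad (DualNumber K) L (bs 0) ^ p = LieAlgebra.ad (DualNumber K) L 0 := by
      rw [← Nat.add_sub_cancel' hp2, pow_add, hX2, zero_mul]
      exact (map_zero (LieAlgebra.ad (DualNumber K) L)).symm
    have hex : ∃ Y1 Y2 : L, LieAlgebra.ad (DualNumber K) L (bs 1) ^ p = LieAlgebra.ad (DualNumber K) L Y1 ∧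
        LieAlgebra.ad (DualNumber K) L (bs 2) ^ p = LieAlgebra.ad (DualNumber K) L Y2 := by
      by_cases hp2' : p = 2
      · subst hp2'
        obtain ⟨hb, hc, he⟩ := hcond rfl
        have hf : f = 0 := by rw [hb] at hJ0; linear_combination -hJ0
        subst hb hc he hf
        refine ⟨comb bs 0 ((i - a) • ε) 0, comb bs 0 0 (-((d + h) • ε)), ?_, ?_⟩
        · apply ext_comb bs
          · rw [hsq, LieAlgebra.ad_apply, comb_x bs, hY, hY, hlie, comb_inj]
            refine ⟨?_, ?_, ?_⟩ <;> apply dext <;> simp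
          · rw [hsq, lie_self, lie_zero, LieAlgebra.ad_apply, comb_y bs, hlie, comb_zero bs, comb_inj]
            refine ⟨?_, ?_, ?_⟩ <;> apply dext <;> simp
          · rw [hsq, LieAlgebra.ad_apply, comb_z bs, hY, hY, hlie, comb_inj]
            refine ⟨?_, ?_, ?_⟩ <;> apply dext <;> simp
        · apply ext_comb bs
          · rw [hsq, LieAlgebra.ad_apply, comb_x bs, hZ, hZ, hlie, comb_inj]
            refine ⟨?_, ?_, ?_⟩ <;> apply dext <;> simp
          · rw [hsq, LieAlgebra.ad_apply, comb_y bs, hZ, hZ, hlie, comb_inj]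
            refine ⟨?_, ?_, ?_⟩ <;> apply dext <;> simp
            ring
          · rw [hsq, lie_self, lie_zero, LieAlgebra.ad_apply, comb_z bs, hlie, comb_zero bs, comb_inj]
            refine ⟨?_, ?_, ?_⟩ <;> apply dext <;> simp
      · by_cases hp3' : p = 3
        · subst hp3'
          refine ⟨comb bs 0 (-(c • ε)) 0, comb bs 0 0 (e • ε), ?_, ?_⟩
          · apply ext_comb bs
            · rw [hcu, LieAlgebra.ad_apply, comb_x bs, hY, hY, hY, hlie, comb_inj]
              refine ⟨?_, ?_, ?_⟩ <;> apply dext <;> simp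
            · rw [hcu, lie_self, lie_zero, lie_zero, LieAlgebra.ad_apply, comb_y bs, hlie, comb_zero bs, comb_inj]
              refine ⟨?_, ?_, ?_⟩ <;> apply dext <;> simp
            · rw [hcu, LieAlgebra.ad_apply, comb_z bs, hY, hY, hY, hlie, comb_inj]
              refine ⟨?_, ?_, ?_⟩ <;> apply dext <;> simp
          · apply ext_comb bs
            · rw [hcu, LieAlgebra.ad_apply, comb_x bs, hZ, hZ, hZ, hlie, comb_inj]
              refine ⟨?_, ?_, ?_⟩ <;> apply dext <;> simp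
            · rw [hcu, LieAlgebra.ad_apply, comb_y bs, hZ, hZ, hZ, hlie, comb_inj]
              refine ⟨?_, ?_, ?_⟩ <;> apply dext <;> simp
            · rw [hcu, lie_self, lie_zero, lie_zero, LieAlgebra.ad_apply, comb_z bs, hlie, comb_zero bs, comb_inj]
              refine ⟨?_, ?_, ?_⟩ <;> apply dext <;> simp
        · have hp4 : 4 ≤ p := by omega
          refine ⟨0, 0, ?_, ?_⟩
          · have h3 : LieAlgebra.ad (DualNumber K) L (bs 1) ^ 4 = 0 := by
              apply ext_comb bs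
              · rw [hqu, LinearMap.zero_apply, comb_x bs, hY, hY, hY, hY, comb_zero bs, comb_inj]
                refine ⟨?_, ?_, ?_⟩ <;> apply dext <;> simp
              · rw [hqu, lie_self, lie_zero, lie_zero, lie_zero, LinearMap.zero_apply]
              · rw [hqu, LinearMap.zero_apply, comb_z bs, hY, hY, hY, hY, comb_zero bs, comb_inj]
                refine ⟨?_, ?_, ?_⟩ <;> apply dext <;> simp
            rw [map_zero, ← Nat.add_sub_cancel' hp4, pow_add, h3, zero_mul]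
          · have h3 : LieAlgebra.ad (DualNumber K) L (bs 2) ^ 4 = 0 := by
              apply ext_comb bs
              · rw [hqu, LinearMap.zero_apply, comb_x bs, hZ, hZ, hZ, hZ, comb_zero bs, comb_inj]
                refine ⟨?_, ?_, ?_⟩ <;> apply dext <;> simp
              · rw [hqu, LinearMap.zero_apply, comb_y bs, hZ, hZ, hZ, hZ, comb_zero bs, comb_inj]
                refine ⟨?_, ?_, ?_⟩ <;> apply dext <;> simp
              · rw [hqu, lie_self, lie_zero, lie_zero, lie_zero, LinearMap.zero_apply]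
            rw [map_zero, ← Nat.add_sub_cancel' hp4, pow_add, h3, zero_mul]
    obtain ⟨Y1, Y2, hY1, hY2⟩ := hex
    obtain ⟨φ, -, -⟩ := K796.FromBasis.existsUnique_of_basis (p := p) bs ![0, Y1, Y2] (fun i => by
        fin_cases i
        · exact hY0
        · exact hY1
        · exact hY2)
    exact ⟨φ⟩

end K796.H3
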