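import Groth.Agent.PLie.K796.Restr
import Mathlib.RingTheory.HopfAlgebra.Basic
import Mathlib.RingTheory.Bialgebra.TensorProduct
import Mathlib.RingTheory.Coalgebra.Basic

/-!
The Hopf algebra structure of the restricted enveloping algebra.
-/

set_option autoImplicit false
universe u v w

open PLie TensorProduct

namespace K796.HopfRu

open K796.Restr

attribute [local instance] LieRing.ofAssociativeRing

variable {k : Type u} [Field k] {p : ℕ} [hp : Fact p.Prime] [CharP k p]
  {L : Type v} [LieRing L] [LieAlgebra k L] (φ : PMap k p L)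

theorem add_pow_of_commute {A : Type*} [Ring A] [Algebra k A] {x y : A} (h : Commute x y) :
    (x + y) ^ p = x ^ p + y ^ p := by
  rw [Jacobson.jacobson_formula k, Words.jacobson_eq_zero_of_lie_eq_zero, sub_zero]
  rw [LieRing.of_associative_ring_bracket, h.eq, sub_self]

/-- the comultiplication on generators -/
noncomputable def Δ₀ : L →ₗ[k] Ru φ ⊗[k] Ru φ where
  toFun x := ιu φ x ⊗ₜ[k] 1 + 1 ⊗ₜ[k] ιu φ x
  map_add' x y := by rw [map_add, add_tmul, tmul_add]; abel
  map_smul' c x := by rw [map_smul, ← smul_tmul', tmul_smul, smul_add, RingHom.id_apply]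

theorem commute_tmul (x y : Ru φ) : Commute (x ⊗ₜ[k] (1 : Ru φ)) ((1 : Ru φ) ⊗ₜ[k] y) := by
  change _ * _ = _ * _
  rw [Algebra.TensorProduct.tmul_mul_tmul, Algebra.TensorProduct.tmul_mul_tmul, one_mul, mul_one,
    one_mul, mul_one]

/-- the comultiplication -/
noncomputable def Δ : Ru φ →ₐ[k] Ru φ ⊗[k] Ru φ :=
  lift (Δ₀ φ) (fun x y => by
      change ιu φ ⁅x, y⁆ ⊗ₜ[k] 1 + 1 ⊗ₜ[k] ιu φ ⁅x, y⁆ = (ιu φ x ⊗ₜ[k] 1 + 1 ⊗ₜ[k] ιu φ x) *
        (ιu φ y ⊗ₜ[k] 1 + 1 ⊗ₜ[k] ιu φ y) - (ιu φ y ⊗ₜ[k] 1 + 1 ⊗ₜ[k] ιu φ y) *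
        (ιu φ x ⊗ₜ[k] 1 + 1 ⊗ₜ[k] ιu φ x)
      rw [ιu_lie]
      simp only [add_mul, mul_add, Algebra.TensorProduct.tmul_mul_tmul, one_mul, mul_one, sub_tmul, tmul_sub]
      abel)
    (fun x => by
      change ιu φ (φ x) ⊗ₜ[k] 1 + 1 ⊗ₜ[k] ιu φ (φ x) = (ιu φ x ⊗ₜ[k] 1 + 1 ⊗ₜ[k] ιu φ x) ^ p
      rw [add_pow_of_commute (k := k) (commute_tmul φ _ _), Algebra.TensorProduct.tmul_pow,
        Algebra.TensorProduct.tmul_pow, one_pow, ιu_pmap])

theorem Δ_ιu (x : L) : Δ φ (ιu φ x) = ιu φ x ⊗ₜ[k] 1 + 1 ⊗ₜ[k] ιu φ x :=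
  lift_ιu (Δ₀ φ) _ _ x

/-- the counit -/
noncomputable def ε : Ru φ →ₐ[k] k :=
  lift (0 : L →ₗ[k] k) (fun x y => by simp) (fun x => by simp [hp.out.ne_zero])

theorem ε_ιu (x : L) : ε φ (ιu φ x) = 0 := lift_ιu _ _ _ x

noncomputable instance : Bialgebra k (Ru φ) :=
  Bialgebra.ofAlgHom (Δ φ) (ε φ)
    (by
      apply hom_ext
      intro x
      simp only [AlgHom.comp_apply, Δ_ιu, map_add, Algebra.TensorProduct.map_tmul, map_one, AlgHom.id_apply,
        add_tmul, tmul_add]
      simp only [Algebra.TensorProduct.one_def]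
      exact add_assoc _ _ _)
    (by
      apply hom_ext
      intro x
      simp only [AlgHom.comp_apply, Δ_ιu, map_add, Algebra.TensorProduct.map_tmul, map_one, AlgHom.id_apply,
        ε_ιu]
      simp)
    (by
      apply hom_ext
      intro x
      simp only [AlgHom.comp_apply, Δ_ιu, map_add, Algebra.TensorProduct.map_tmul, map_one, AlgHom.id_apply,
        ε_ιu]
      simp)

theorem comul_eq (a : Ru φ) : Coalgebra.comul (R := k) a = Δ φ a := rfl
theorem counit_eq (a : Ru φ) : Coalgebra.counit (R := k) a = ε φ a := rfl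

variable {φ} in
/-- induction principle for the restricted enveloping algebra -/
theorem induction {P : Ru φ → Prop} (halg : ∀ c : k, P (algebraMap k (Ru φ) c)) (hι : ∀ x : L, P (ιu φ x))
    (hmul : ∀ a c, P a → P c → P (a * c)) (hadd : ∀ a c, P a → P c → P (a + c)) (a : Ru φ) : P a := by
  obtain ⟨u, rfl⟩ := mk_surjective φ a
  obtain ⟨t, rfl⟩ : ∃ t, UniversalEnvelopingAlgebra.mkAlgHom k L t = u :=
    RingCon.mkₐ_surjective _ u
  induction t using TensorAlgebra.induction with
  | algebraMap r =>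
    rw [AlgHom.commutes, AlgHom.commutes]
    exact halg r
  | ι y => exact hι y
  | mul s t hs ht =>
    rw [map_mul, map_mul]
    exact hmul _ _ hs ht
  | add s t hs ht =>
    rw [map_add, map_add]
    exact hadd _ _ hs ht

instance : Coalgebra.IsCocomm k (Ru φ) where
  comm_comp_comul := by
    have h : ((Algebra.TensorProduct.comm k (Ru φ) (Ru φ)).toAlgHom.comp (Δ φ)) = Δ φ := by
      apply hom_ext
      intro x
      rw [AlgHom.comp_apply, Δ_ιu, map_add]
      exact add_comm _ _
    ext a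
    exact AlgHom.congr_fun h a

omit [CharP k p] in
theorem neg_one_pow_p (k : Type u) [Field k] (p : ℕ) [hp : Fact p.Prime] [CharP k p]
    (A : Type*) [Ring A] [Algebra k A] : (-1 : A) ^ p = -1 := by
  have h1 : (-1 : A) ^ (p - 1) = 1 := Jacobson.neg_one_pow_pred (Central.cast_eq_zero k p _)
  conv_lhs => rw [← Nat.sub_add_cancel hp.out.one_le]
  rw [pow_succ, h1, one_mul]

theorem neg_pow_p (x : Ru φ) : (-x) ^ p = - x ^ p := by
  rw [neg_pow, neg_one_pow_p k p (Ru φ), neg_one_mul]

/-- the antipode as an algebra morphism to the opposite algebra -/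
noncomputable def Sop : Ru φ →ₐ[k] (Ru φ)ᵐᵒᵖ :=
  lift ((MulOpposite.opLinearEquiv k).toLinearMap ∘ₗ (- ιu φ)) (fun x y => by
      change MulOpposite.op (- ιu φ ⁅x, y⁆) = MulOpposite.op (- ιu φ x) * MulOpposite.op (- ιu φ y) -
        MulOpposite.op (- ιu φ y) * MulOpposite.op (- ιu φ x)
      rw [ιu_lie, ← MulOpposite.op_mul, ← MulOpposite.op_mul, ← MulOpposite.op_sub]
      congr 1
      noncomm_ring)
    (fun x => by
      change MulOpposite.op (- ιu φ (φ x)) = MulOpposite.op (- ιu φ x) ^ p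
      rw [← MulOpposite.op_pow, neg_pow_p, ιu_pmap])

/-- the antipode -/
noncomputable def S : Ru φ →ₗ[k] Ru φ :=
  (MulOpposite.opLinearEquiv k).symm.toLinearMap ∘ₗ (Sop φ).toLinearMap

theorem S_ιu (x : L) : S φ (ιu φ x) = - ιu φ x := by
  have : Sop φ (ιu φ x) = MulOpposite.op (- ιu φ x) := lift_ιu _ _ _ x
  change MulOpposite.unop (Sop φ (ιu φ x)) = _
  rw [this]
  rfl

theorem S_mul (a c : Ru φ) : S φ (a * c) = S φ c * S φ a := by
  change MulOpposite.unop (Sop φ (a * c)) = _
  rw [map_mul]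
  rfl

theorem S_one : S φ 1 = 1 := by
  change MulOpposite.unop (Sop φ 1) = _
  rw [map_one]
  rfl

theorem mulS_mul (t : Ru φ ⊗[k] Ru φ) (c d : Ru φ) :
    LinearMap.mul' k (Ru φ) ((S φ).rTensor (Ru φ) (t * (c ⊗ₜ[k] d))) =
      S φ c * LinearMap.mul' k (Ru φ) ((S φ).rTensor (Ru φ) t) * d := by
  induction t using TensorProduct.induction_on with
  | zero => simp
  | tmul x y =>
    simp only [Algebra.TensorProduct.tmul_mul_tmul, LinearMap.rTensor_tmul, LinearMap.mul'_apply, S_mul]
    noncomm_ring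
  | add x y hx hy =>
    rw [add_mul, map_add, map_add, hx, hy, map_add, map_add, mul_add, add_mul]

theorem mulS_mul' (t : Ru φ ⊗[k] Ru φ) (c d : Ru φ) :
    LinearMap.mul' k (Ru φ) ((S φ).lTensor (Ru φ) ((c ⊗ₜ[k] d) * t)) =
      c * LinearMap.mul' k (Ru φ) ((S φ).lTensor (Ru φ) t) * S φ d := by
  induction t using TensorProduct.induction_on with
  | zero => simp
  | tmul x y =>
    simp only [Algebra.TensorProduct.tmul_mul_tmul, LinearMap.lTensor_tmul, LinearMap.mul'_apply, S_mul]
    noncomm_ring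
  | add x y hx hy =>
    rw [mul_add, map_add, map_add, hx, hy, map_add, map_add, mul_add, add_mul]

theorem antipode_left (a : Ru φ) :
    LinearMap.mul' k (Ru φ) ((S φ).rTensor (Ru φ) (Δ φ a)) = algebraMap k (Ru φ) (ε φ a) := by
  induction a using induction with
  | halg c =>
    rw [AlgHom.commutes, AlgHom.commutes, Algebra.TensorProduct.algebraMap_apply, LinearMap.rTensor_tmul,
      LinearMap.mul'_apply, mul_one]
    have h : algebraMap k (Ru φ) c = c • 1 := Algebra.algebraMap_eq_smul_one c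
    rw [h, map_smul, S_one]
    simp [Algebra.algebraMap_eq_smul_one]
  | hι x =>
    rw [Δ_ιu, ε_ιu, map_add, map_add, LinearMap.rTensor_tmul, LinearMap.rTensor_tmul, LinearMap.mul'_apply,
      LinearMap.mul'_apply, S_ιu, S_one, mul_one, one_mul, neg_add_cancel, map_zero]
  | hmul a c ha hc =>
    rw [map_mul (Δ φ), map_mul (ε φ), map_mul (algebraMap k (Ru φ))]
    have key : ∀ s : Ru φ ⊗[k] Ru φ, LinearMap.mul' k (Ru φ) ((S φ).rTensor (Ru φ) (Δ φ a * s)) =
        algebraMap k (Ru φ) (ε φ a) * LinearMap.mul' k (Ru φ) ((S φ).rTensor (Ru φ) s) := by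
      intro s
      induction s using TensorProduct.induction_on with
      | zero => simp
      | tmul x y =>
        rw [mulS_mul, ha, LinearMap.rTensor_tmul, LinearMap.mul'_apply, ← Algebra.commutes, mul_assoc]
      | add x y hx hy => rw [mul_add, map_add, map_add, hx, hy, map_add, map_add, mul_add]
    rw [key, hc]
  | hadd a c ha hc => rw [map_add, map_add, map_add, ha, hc, map_add, map_add]

theorem antipode_right (a : Ru φ) :
    LinearMap.mul' k (Ru φ) ((S φ).lTensor (Ru φ) (Δ φ a)) = algebraMap k (Ru φ) (ε φ a) := by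
  induction a using induction with
  | halg c =>
    rw [AlgHom.commutes, AlgHom.commutes, Algebra.TensorProduct.algebraMap_apply, LinearMap.lTensor_tmul,
      LinearMap.mul'_apply, S_one, mul_one]
    rfl
  | hι x =>
    rw [Δ_ιu, ε_ιu, map_add, map_add, LinearMap.lTensor_tmul, LinearMap.lTensor_tmul, LinearMap.mul'_apply,
      LinearMap.mul'_apply, S_ιu, S_one, mul_one, one_mul, add_neg_cancel, map_zero]
  | hmul a c ha hc =>
    rw [map_mul (Δ φ), map_mul (ε φ), map_mul (algebraMap k (Ru φ))]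
    have key : ∀ s : Ru φ ⊗[k] Ru φ, LinearMap.mul' k (Ru φ) ((S φ).lTensor (Ru φ) (s * Δ φ c)) =
        LinearMap.mul' k (Ru φ) ((S φ).lTensor (Ru φ) s) * algebraMap k (Ru φ) (ε φ c) := by
      intro s
      induction s using TensorProduct.induction_on with
      | zero => simp
      | tmul x y =>
        rw [mulS_mul', hc, LinearMap.lTensor_tmul, LinearMap.mul'_apply, mul_assoc, mul_assoc,
          Algebra.commutes (ε φ c)]
      | add x y hx hy => rw [add_mul, map_add, map_add, hx, hy, map_add, map_add, add_mul]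
    rw [key, ha]
  | hadd a c ha hc => rw [map_add, map_add, map_add, ha, hc, map_add, map_add]

noncomputable instance : HopfAlgebra k (Ru φ) where
  antipode := S φ
  mul_antipode_rTensor_comul := by
    apply LinearMap.ext
    intro a
    exact antipode_left φ a
  mul_antipode_lTensor_comul := by
    apply LinearMap.ext
    intro a
    exact antipode_right φ a

end K796.HopfRu
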