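import Groth.Agent.PLie.K796.Deform

/-!
The restrictability criterion for the first-order deformations of the algebras `l_t`.
-/

set_option autoImplicit false
universe u v w

open PLie DualNumber K796.Three K796.Deform

namespace K796.L3

theorem main (K : Type u) [Field K] (p : ℕ) [Fact p.Prime] [CharP K p]
    [CharP (DualNumber K) p] (t a b c d e f g h i : K) (ht : t ^ p = t)
    (L : Type v) [LieRing L] [LieAlgebra (DualNumber K) L] (bs : Module.Basis (Fin 3) (DualNumber K) L)
    (hxy : ⁅bs 0, bs 1⁆ = (a • ε : DualNumber K) • bs 0 + (1 + b • ε : DualNumber K) • bs 1 + (c • ε : DualNumber K) • bs 2)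
    (hxz : ⁅bs 0, bs 2⁆ = (d • ε : DualNumber K) • bs 0 + (e • ε : DualNumber K) • bs 1 +
      (algebraMap K (DualNumber K) t + f • ε) • bs 2)
    (hyz : ⁅bs 1, bs 2⁆ = (g • ε : DualNumber K) • bs 0 + (h • ε : DualNumber K) • bs 1 + (i • ε : DualNumber K) • bs 2) :
    Nonempty (PLie.PMap (DualNumber K) p L) ↔ (b * t = f ∧ (t = 1 → c = 0 ∧ e = 0) ∧ (p = 2 → g = 0)) := by
  have hp := (Fact.out : p.Prime)
  have hp2 := hp.two_le
  change ⁅bs 0, bs 1⁆ = comb bs _ _ _ at hxy
  change ⁅bs 0, bs 2⁆ = comb bs _ _ _ at hxz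
  change ⁅bs 1, bs 2⁆ = comb bs _ _ _ at hyz
  have hlie := lie_comb bs hxy hxz hyz
  -- Jacobi
  have hJ := leibniz_lie (bs 0) (bs 1) (bs 2)
  rw [hxy, hxz, hyz, comb_x bs, comb_y bs, comb_z bs, hlie, hlie, hlie, comb_add, comb_inj] at hJ
  obtain ⟨hJ0, hJ1, hJ2⟩ := hJ
  replace hJ0 := congrArg TrivSqZeroExt.snd hJ0
  replace hJ1 := congrArg TrivSqZeroExt.snd hJ1
  replace hJ2 := congrArg TrivSqZeroExt.snd hJ2
  simp [fst_algebraMap, snd_algebraMap] at hJ0 hJ1 hJ2
  -- powers of `ad x`
  have hX : ∀ r0 r1 r2 : DualNumber K, ⁅bs 0, comb bs r0 r1 r2⁆ = comb bs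
      (r1 * (a • ε) + r2 * (d • ε)) (r1 * (1 + b • ε) + r2 * (e • ε))
      (r1 * (c • ε) + r2 * (algebraMap K (DualNumber K) t + f • ε)) := fun r0 r1 r2 => by
    rw [comb_x bs, hlie, comb_inj]
    refine ⟨by ring, by ring, by ring⟩
  have hY : ∀ r0 r1 r2 : DualNumber K, ⁅bs 1, comb bs r0 r1 r2⁆ = comb bs
      (r2 * (g • ε) - r0 * (a • ε)) (r2 * (h • ε) - r0 * (1 + b • ε))
      (r2 * (i • ε) - r0 * (c • ε)) := fun r0 r1 r2 => by
    rw [comb_y bs, hlie, comb_inj]
    refine ⟨by ring, by ring, by ring⟩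
  have hZ : ∀ r0 r1 r2 : DualNumber K, ⁅bs 2, comb bs r0 r1 r2⁆ = comb bs
      (- (r0 * (d • ε) + r1 * (g • ε))) (- (r0 * (e • ε) + r1 * (h • ε)))
      (- (r0 * (algebraMap K (DualNumber K) t + f • ε) + r1 * (i • ε))) := fun r0 r1 r2 => by
    rw [comb_z bs, hlie, comb_inj]
    refine ⟨by ring, by ring, by ring⟩
  have hadx : ∀ v, LieAlgebra.ad (DualNumber K) L (bs 0) v = ⁅bs 0, v⁆ := fun v => LieAlgebra.ad_apply _ _ _ _
  let S : ℕ → K := fun n => ∑ j ∈ Finset.range n, t ^ j
  have hS0 : S 0 = 0 := Finset.sum_range_zero _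
  have hS : ∀ n, S (n + 1) = S n + t ^ n := fun n => Finset.sum_range_succ _ _
  have hS' : ∀ n, S (n + 1) = t * S n + 1 := by
    intro n
    induction n with
    | zero => rw [hS, hS0]; simp
    | succ n ih =>
      have e1 := hS (n + 1)
      have e2 := hS n
      linear_combination e1 + ih - t * e2
  have hpy : ∀ n : ℕ, (LieAlgebra.ad (DualNumber K) L (bs 0) ^ (n + 1)) (bs 1) =
      comb bs (a • ε) (1 + ((n + 1 : K) * b) • ε) ((c * S (n + 1)) • ε) := by
    intro n
    induction n with
    | zero =>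
      rw [zero_add, pow_one, LieAlgebra.ad_apply, hxy, hS', hS0]
      simp
    | succ n ih =>
      rw [pow_succ', Module.End.mul_apply, ih, hadx, hX, comb_inj]
      refine ⟨?_, ?_, ?_⟩
      · apply dext <;> simp [fst_algebraMap, snd_algebraMap]
      · apply dext
        · simp [fst_algebraMap, snd_algebraMap]
        · simp [fst_algebraMap, snd_algebraMap]
          ring
      · apply dext
        · simp [fst_algebraMap, snd_algebraMap]
        · simp [fst_algebraMap, snd_algebraMap]
          rw [hS' (n + 1)]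
          ring
  have hpz : ∀ n : ℕ, (LieAlgebra.ad (DualNumber K) L (bs 0) ^ (n + 1)) (bs 2) =
      comb bs ((d * t ^ n) • ε) ((e * S (n + 1)) • ε)
        (algebraMap K (DualNumber K) (t ^ (n + 1)) + ((n + 1 : K) * t ^ n * f) • ε) := by
    intro n
    induction n with
    | zero =>
      rw [zero_add, pow_one, LieAlgebra.ad_apply, hxz, hS', hS0]
      simp
    | succ n ih =>
      rw [pow_succ', Module.End.mul_apply, ih, hadx, hX, comb_inj]
      refine ⟨?_, ?_, ?_⟩
      · apply dext
        · simp [fst_algebraMap, snd_algebraMap]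
        · simp [fst_algebraMap, snd_algebraMap]
          try ring
      · apply dext
        · simp [fst_algebraMap, snd_algebraMap]
        · simp [fst_algebraMap, snd_algebraMap]
          rw [hS (n + 1)]
          ring
      · apply dext
        · simp [fst_algebraMap, snd_algebraMap]
          try ring
        · simp [fst_algebraMap, snd_algebraMap]
          try ring
  have hpp : p = (p - 1) + 1 := by omega
  have hcast : ((p - 1 : ℕ) : K) + 1 = 0 := by
    have h1 : ((p - 1 + 1 : ℕ) : K) = 0 := by rw [← hpp, CharP.cast_eq_zero]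
    push_cast at h1
    exact h1
  have hpy' : (LieAlgebra.ad (DualNumber K) L (bs 0) ^ p) (bs 1) =
      comb bs (a • ε) 1 ((c * S p) • ε) := by
    have h1 := hpy (p - 1)
    rw [hcast, ← hpp] at h1
    rw [h1]
    simp
  have hpz' : (LieAlgebra.ad (DualNumber K) L (bs 0) ^ p) (bs 2) =
      comb bs ((d * t ^ (p - 1)) • ε) ((e * S p) • ε) (algebraMap K (DualNumber K) t) := by
    have h1 := hpz (p - 1)
    rw [hcast, ← hpp] at h1
    rw [h1, ht]
    simp
  have hpx' : (LieAlgebra.ad (DualNumber K) L (bs 0) ^ p) (bs 0) = 0 := by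
    conv_lhs => rw [hpp]
    rw [pow_succ, Module.End.mul_apply, LieAlgebra.ad_apply, lie_self, map_zero]
  have hSp : t ≠ 1 → S p = 1 := by
    intro h1
    have h2 : S p * (t - 1) = t ^ p - 1 := geom_sum_mul t p
    rw [ht] at h2
    exact mul_right_cancel₀ (sub_ne_zero.mpr h1) (by rw [h2, one_mul])
  have hSp1 : t = 1 → S p = 0 := by
    rintro rfl
    change ∑ j ∈ Finset.range p, (1 : K) ^ j = 0
    simp
  have hsq : ∀ u v : L, (LieAlgebra.ad (DualNumber K) L u ^ 2) v = ⁅u, ⁅u, v⁆⁆ := fun a c => by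
    rw [pow_two, Module.End.mul_apply, LieAlgebra.ad_apply, LieAlgebra.ad_apply]
  constructor
  · rintro ⟨φ⟩
    obtain ⟨w0, w1, w2, hw⟩ := exists_comb bs (φ (bs 0))
    have h1 : ⁅φ (bs 0), bs 1⁆ = comb bs (a • ε) 1 ((c * S p) • ε) := by
      rw [← LieAlgebra.ad_apply (DualNumber K), φ.ad_map, hpy']
    have h2 : ⁅φ (bs 0), bs 2⁆ = comb bs ((d * t ^ (p - 1)) • ε) ((e * S p) • ε)
        (algebraMap K (DualNumber K) t) := by
      rw [← LieAlgebra.ad_apply (DualNumber K), φ.ad_map, hpz']
    have h3 : ⁅φ (bs 0), bs 0⁆ = comb bs 0 0 0 := by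
      rw [← LieAlgebra.ad_apply (DualNumber K), φ.ad_map, hpx', comb_zero bs]
    rw [hw, comb_y bs, hlie, comb_inj] at h1
    rw [hw, comb_z bs, hlie, comb_inj] at h2
    rw [hw, comb_x bs, hlie, comb_inj] at h3
    obtain ⟨-, h11, h12⟩ := h1
    obtain ⟨-, h21, h22⟩ := h2
    obtain ⟨-, h31, h32⟩ := h3
    have f11 := congrArg TrivSqZeroExt.fst h11
    have g11 := congrArg TrivSqZeroExt.snd h11
    have g12 := congrArg TrivSqZeroExt.snd h12
    have g21 := congrArg TrivSqZeroExt.snd h21
    have g22 := congrArg TrivSqZeroExt.snd h22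
    have f31 := congrArg TrivSqZeroExt.fst h31
    have f32 := congrArg TrivSqZeroExt.fst h32
    simp [fst_algebraMap, snd_algebraMap] at f11 g11 g12 g21 g22 f31 f32
    rw [f11] at g11 g12 g21 g22
    rw [f31] at g21 g22
    refine ⟨?_, ?_, ?_⟩
    · rcases f32 with h0 | h0
      · rw [h0] at g11
        linear_combination t * g11 - g22
      · rw [h0] at g22 ⊢
        linear_combination - g22
    · intro ht1
      have h0 : TrivSqZeroExt.fst w2 = 0 := by
        rcases f32 with h0 | h0
        · exact h0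
        · rw [ht1] at h0
          exact absurd h0 one_ne_zero
      rw [hSp1 ht1, h0] at g12
      rw [hSp1 ht1] at g21
      exact ⟨by linear_combination g12, by linear_combination g21⟩
    · intro hp2'
      subst hp2'
      obtain ⟨v0, v1, v2, hv⟩ := exists_comb bs (φ (bs 1))
      have k1 : ⁅φ (bs 1), bs 1⁆ = ⁅bs 1, ⁅bs 1, bs 1⁆⁆ := by
        rw [← LieAlgebra.ad_apply (DualNumber K), φ.ad_map, hsq]
      have k2 : ⁅φ (bs 1), bs 2⁆ = ⁅bs 1, ⁅bs 1, bs 2⁆⁆ := by
        rw [← LieAlgebra.ad_apply (DualNumber K), φ.ad_map, hsq]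
      have k3 : ⁅φ (bs 1), bs 0⁆ = ⁅bs 1, ⁅bs 1, bs 0⁆⁆ := by
        rw [← LieAlgebra.ad_apply (DualNumber K), φ.ad_map, hsq]
      rw [hv, lie_self, lie_zero, comb_y bs, hlie, comb_zero bs, comb_inj] at k1
      rw [hv, comb_z bs, hY, hY, hlie, comb_inj] at k2
      rw [hv, comb_x bs, hY, hY, hlie, comb_inj] at k3
      obtain ⟨-, k11, k12⟩ := k1
      obtain ⟨-, k21, k22⟩ := k2
      obtain ⟨-, k31, k32⟩ := k3
      have l11 := congrArg TrivSqZeroExt.fst k11
      have l21 := congrArg TrivSqZeroExt.snd k21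
      have l31 := congrArg TrivSqZeroExt.fst k31
      simp [fst_algebraMap, snd_algebraMap] at l11 l21 l31
      rw [l11, l31] at l21
      linear_combination l21
  · rintro ⟨hf, hce, hg⟩
    have hc : c * S p = c := by
      by_cases ht1 : t = 1
      · rw [(hce ht1).1, zero_mul]
      · rw [hSp ht1, mul_one]
    have he : e * S p = e := by
      by_cases ht1 : t = 1
      · rw [(hce ht1).2, zero_mul]
      · rw [hSp ht1, mul_one]
    have hd : d * t ^ (p - 1) = d := by
      by_cases ht0 : t = 0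
      · rw [ht0] at hJ1
        have : d = 0 := by linear_combination -hJ1
        rw [this, zero_mul]
      · have h1 : t ^ (p - 1) * t = t := by rw [← pow_succ, ← hpp, ht]
        rw [mul_right_cancel₀ ht0 (by rw [h1, one_mul] : t ^ (p - 1) * t = 1 * t), mul_one]
    rw [hc] at hpy'
    rw [he, hd] at hpz'
    have hY0 : LieAlgebra.ad (DualNumber K) L (bs 0) ^ p =
        LieAlgebra.ad (DualNumber K) L (comb bs (1 - b • ε) 0 0) := by
      apply ext_comb bs
      · rw [hpx', LieAlgebra.ad_apply, comb_x bs, hlie, comb_zero bs, comb_inj]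
        refine ⟨?_, ?_, ?_⟩ <;> apply dext <;> simp [fst_algebraMap, snd_algebraMap]
      · rw [hpy', LieAlgebra.ad_apply, comb_y bs, hlie, comb_inj]
        refine ⟨?_, ?_, ?_⟩ <;> apply dext <;> simp [fst_algebraMap, snd_algebraMap]
      · rw [hpz', LieAlgebra.ad_apply, comb_z bs, hlie, comb_inj]
        refine ⟨?_, ?_, ?_⟩
        · apply dext <;> simp [fst_algebraMap, snd_algebraMap]
        · apply dext <;> simp [fst_algebraMap, snd_algebraMap]
        · apply dext
          · simp [fst_algebraMap, snd_algebraMap]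
          · simp [fst_algebraMap, snd_algebraMap]
            linear_combination hf
    have hex : ∃ Y1 Y2 : L, LieAlgebra.ad (DualNumber K) L (bs 1) ^ p = LieAlgebra.ad (DualNumber K) L Y1 ∧
        LieAlgebra.ad (DualNumber K) L (bs 2) ^ p = LieAlgebra.ad (DualNumber K) L Y2 := by
      by_cases hp2' : p = 2
      · subst hp2'
        have hg0 := hg rfl
        subst hg0
        refine ⟨comb bs 0 (-(a • ε)) 0, comb bs 0 0 (-(d • ε)), ?_, ?_⟩
        · apply ext_comb bs
          · rw [hsq, LieAlgebra.ad_apply, comb_x bs, hY, hY, hlie, comb_inj]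
            refine ⟨?_, ?_, ?_⟩ <;> apply dext <;> simp [fst_algebraMap, snd_algebraMap]
          · rw [hsq, lie_self, lie_zero, LieAlgebra.ad_apply, comb_y bs, hlie, comb_zero bs, comb_inj]
            refine ⟨?_, ?_, ?_⟩ <;> apply dext <;> simp [fst_algebraMap, snd_algebraMap]
          · rw [hsq, LieAlgebra.ad_apply, comb_z bs, hY, hY, hlie, comb_inj]
            refine ⟨?_, ?_, ?_⟩ <;> apply dext <;> simp [fst_algebraMap, snd_algebraMap]
        · apply ext_comb bs
          · rw [hsq, LieAlgebra.ad_apply, comb_x bs, hZ, hZ, hlie, comb_inj]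
            refine ⟨?_, ?_, ?_⟩ <;> apply dext <;> simp [fst_algebraMap, snd_algebraMap]
          · rw [hsq, LieAlgebra.ad_apply, comb_y bs, hZ, hZ, hlie, comb_inj]
            refine ⟨?_, ?_, ?_⟩ <;> apply dext <;> simp [fst_algebraMap, snd_algebraMap]
          · rw [hsq, lie_self, lie_zero, LieAlgebra.ad_apply, comb_z bs, hlie, comb_zero bs, comb_inj]
            refine ⟨?_, ?_, ?_⟩ <;> apply dext <;> simp [fst_algebraMap, snd_algebraMap]
      · have hp3 : 3 ≤ p := by omega
        have hcu : ∀ u v : L, (LieAlgebra.ad (DualNumber K) L u ^ 3) v = ⁅u, ⁅u, ⁅u, v⁆⁆⁆ := fun u v => by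
          rw [pow_succ', Module.End.mul_apply, hsq, LieAlgebra.ad_apply]
        refine ⟨0, 0, ?_, ?_⟩
        · have h3 : LieAlgebra.ad (DualNumber K) L (bs 1) ^ 3 = 0 := by
            apply ext_comb bs
            · rw [hcu, LinearMap.zero_apply, comb_x bs, hY, hY, hY, comb_zero bs, comb_inj]
              refine ⟨?_, ?_, ?_⟩ <;> apply dext <;> simp [fst_algebraMap, snd_algebraMap]
            · rw [hcu, lie_self, lie_zero, lie_zero, LinearMap.zero_apply]
            · rw [hcu, LinearMap.zero_apply, comb_z bs, hY, hY, hY, comb_zero bs, comb_inj]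
              refine ⟨?_, ?_, ?_⟩ <;> apply dext <;> simp [fst_algebraMap, snd_algebraMap]
          rw [map_zero, ← Nat.add_sub_cancel' hp3, pow_add, h3, zero_mul]
        · have h3 : LieAlgebra.ad (DualNumber K) L (bs 2) ^ 3 = 0 := by
            apply ext_comb bs
            · rw [hcu, LinearMap.zero_apply, comb_x bs, hZ, hZ, hZ, comb_zero bs, comb_inj]
              refine ⟨?_, ?_, ?_⟩ <;> apply dext <;> simp [fst_algebraMap, snd_algebraMap]
            · rw [hcu, LinearMap.zero_apply, comb_y bs, hZ, hZ, hZ, comb_zero bs, comb_inj]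
              refine ⟨?_, ?_, ?_⟩ <;> apply dext <;> simp [fst_algebraMap, snd_algebraMap]
            · rw [hcu, lie_self, lie_zero, lie_zero, LinearMap.zero_apply]
          rw [map_zero, ← Nat.add_sub_cancel' hp3, pow_add, h3, zero_mul]
    obtain ⟨Y1, Y2, hY1, hY2⟩ := hex
    obtain ⟨φ, -, -⟩ := K796.FromBasis.existsUnique_of_basis (p := p) bs
      ![comb bs (1 - b • ε) 0 0, Y1, Y2] (fun i => by
        fin_cases i
        · exact hY0
        · exact hY1
        · exact hY2)
    exact ⟨φ⟩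

end K796.L3
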