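import Groth.Prelude.Def_PLie
import Mathlib.Algebra.Lie.Engel
import Mathlib.RingTheory.Noetherian.Basic

/-!
Nilpotency facts for `p`-mappings: `ad (φ^[n] x) = (ad x) ^ (p ^ n)`; ideals whose elements are ad-nilpotent.
-/

set_option autoImplicit false
universe u v w

open PLie

namespace K796.Nil

theorem ad_iterate {R : Type u} [CommRing R] {p : ℕ} [CharP R p] {L : Type v} [LieRing L] [LieAlgebra R L]
    (φ : PMap R p L) (n : ℕ) (x : L) :
    LieAlgebra.ad R L (φ.toFun^[n] x) = LieAlgebra.ad R L x ^ (p ^ n) := by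
  induction n with
  | zero => simp
  | succ n ih =>
    rw [Function.iterate_succ_apply', φ.ad_map, ih, ← pow_mul, pow_succ]

theorem ad_isNilpotent_of_isPNilpotent {R : Type u} [CommRing R] {p : ℕ} [Fact p.Prime] [CharP R p]
    {L : Type v} [LieRing L] [LieAlgebra R L] (φ : PMap R p L) (x : L) (h : IsPNilpotent φ x) :
    IsNilpotent (LieAlgebra.ad R L x) := by
  obtain ⟨n, hn⟩ := h
  refine ⟨p ^ n, ?_⟩
  rw [← ad_iterate φ, hn, map_zero]

theorem coe_ad_pow {R : Type u} [CommRing R] {L : Type v} [LieRing L] [LieAlgebra R L] (I : LieIdeal R L)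
    (x y : I) (n : ℕ) : (((LieAlgebra.ad R I x) ^ n) y : L) = ((LieAlgebra.ad R L (x : L)) ^ n) (y : L) := by
  induction n with
  | zero => rfl
  | succ n ih =>
    rw [pow_succ', pow_succ', Module.End.mul_apply, Module.End.mul_apply, ← ih, LieAlgebra.ad_apply,
      LieAlgebra.ad_apply]
    rfl

theorem isNilpotent_of_forall {k : Type u} [Field k] {L : Type v} [LieRing L] [LieAlgebra k L]
    [Module.Finite k L] (I : LieIdeal k L) (h : ∀ x ∈ I, IsNilpotent (LieAlgebra.ad k L x)) :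
    LieRing.IsNilpotent I := by
  rw [LieAlgebra.isNilpotent_iff_forall (R := k)]
  intro x
  obtain ⟨n, hn⟩ := h x x.2
  refine ⟨n, ?_⟩
  ext y
  rw [coe_ad_pow, hn]
  rfl

/-- elements of a nilpotent ideal act nilpotently on the whole algebra -/
theorem ad_isNilpotent_of_mem {k : Type u} [Field k] {L : Type v} [LieRing L] [LieAlgebra k L]
    [Module.Finite k L] (I : LieIdeal k L) (hI : LieRing.IsNilpotent I) (x : L) (hx : x ∈ I) :
    IsNilpotent (LieAlgebra.ad k L x) := by
  rw [LieAlgebra.isNilpotent_iff_forall (R := k)] at hI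
  obtain ⟨n, hn⟩ := hI ⟨x, hx⟩
  refine ⟨n + 1, ?_⟩
  ext y
  have hy : ⁅x, y⁆ ∈ I := by
    rw [← lie_skew]
    exact neg_mem (LieSubmodule.lie_mem _ hx)
  have h1 := coe_ad_pow I ⟨x, hx⟩ ⟨⁅x, y⁆, hy⟩ n
  rw [hn] at h1
  rw [pow_succ, Module.End.mul_apply, LieAlgebra.ad_apply]
  exact h1.symm

/-- the elements of a nilpotent ideal lower a finite filtration of the whole algebra -/
theorem exists_filtration {k : Type u} [Field k] {L : Type v} [LieRing L] [LieAlgebra k L]
    [Module.Finite k L] (I : LieIdeal k L) (hI : ∀ x ∈ I, IsNilpotent (LieAlgebra.ad k L x)) :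
    ∃ (m : ℕ) (F : ℕ → Submodule k L), F 0 = ⊤ ∧ F m = ⊥ ∧ Antitone F ∧
      ∀ x ∈ I, ∀ n, ∀ y ∈ F n, ⁅x, y⁆ ∈ F (n + 1) := by
  have h1 : LieModule.IsNilpotent I L := by
    rw [LieModule.isNilpotent_iff_forall (R := k)]
    intro x
    obtain ⟨n, hn⟩ := hI x x.2
    refine ⟨n, ?_⟩
    ext y
    have h2 : ∀ n, ((LieModule.toEnd k I L x) ^ n) y = ((LieAlgebra.ad k L (x : L)) ^ n) y := by
      intro n
      induction n with
      | zero => rfl
      | succ n ih =>
        rw [pow_succ', pow_succ', Module.End.mul_apply, Module.End.mul_apply, ← ih]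
        rfl
    rw [h2, hn]
  obtain ⟨m, hm⟩ := (LieModule.isNilpotent_iff k I L).mp h1
  refine ⟨m, fun n => (LieModule.lowerCentralSeries k I L n).toSubmodule, ?_, ?_, ?_, ?_⟩
  · simp
  · simp [hm]
  · intro a b hab
    exact LieModule.antitone_lowerCentralSeries k I L hab
  · intro x hx n y hy
    change ⁅x, y⁆ ∈ LieModule.lowerCentralSeries k I L (n + 1)
    rw [LieModule.lowerCentralSeries_succ]
    exact LieSubmodule.lie_mem_lie (x := (⟨x, hx⟩ : I)) (LieSubmodule.mem_top _) hy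

end K796.Nil
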