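import Groth.Agent.PLie.K796.HopfRu
import Groth.Agent.PLie.K796.Expand
import Mathlib.LinearAlgebra.TensorProduct.Basis

/-!
The primitive elements of the restricted enveloping algebra.
-/

set_option autoImplicit false
universe u v w

open PLie TensorProduct

namespace K796.Prim

open K796.Restr K796.Filt K796.HopfRu

variable {k : Type u} [Field k] {p : ℕ} [hp : Fact p.Prime] [CharP k p]
  {L : Type v} [LieRing L] [LieAlgebra k L] (φ : PMap k p L) {n : ℕ} (b : Module.Basis (Fin n) k L)

/-- generators -/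
noncomputable abbrev y (i : Fin n) : Ru φ := ιu φ (b i)

theorem repr_om (α : Fin n → ℕ) (hα : ∀ i, α i < p) (β : Fin n → Fin p) :
    (basis φ b).repr (om (y φ b) α) β = if (∀ i, α i = β i) then 1 else 0 := by
  have h1 : om (y φ b) α = basis φ b (fun i => ⟨α i, hα i⟩) := by
    rw [basis_apply]
    rfl
  rw [h1, Module.Basis.repr_self, Finsupp.single_apply]
  congr 1
  rw [eq_iff_iff]
  constructor
  · intro h i
    rw [← h]
  · intro h
    funext i
    exact Fin.ext (h i)

theorem Δ_om (α : Fin n → ℕ) : Δ φ (om (y φ b) α) =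
    ∑ β : (i : Fin n) → Fin (α i + 1), ((∏ i, (α i).choose (β i) : ℕ) : k) •
        (om (y φ b) (fun i => (β i : ℕ)) ⊗ₜ[k] om (y φ b) (fun i => α i - β i)) := by
  have h0 := map_om (Δ φ).toRingHom.toMonoidHom (y φ b) α
  have h1 : (fun i => (Δ φ) (y φ b i)) = fun i => y φ b i ⊗ₜ[k] (1 : Ru φ) + (1 : Ru φ) ⊗ₜ[k] y φ b i :=
    funext fun i => Δ_ιu φ (b i)
  change Δ φ (om (y φ b) α) = om (fun i => Δ φ (y φ b i)) α at h0
  rw [h0, h1, Expand.om_add n _ _ (fun i j => commute_tmul φ _ _)]
  refine Finset.sum_congr rfl fun β _ => ?_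
  have h2 : om (fun i => y φ b i ⊗ₜ[k] (1 : Ru φ)) (fun i => (β i : ℕ)) =
      om (y φ b) (fun i => (β i : ℕ)) ⊗ₜ[k] (1 : Ru φ) :=
    (map_om (Algebra.TensorProduct.includeLeft : Ru φ →ₐ[k] Ru φ ⊗[k] Ru φ).toRingHom.toMonoidHom (y φ b) _).symm
  have h3 : om (fun i => (1 : Ru φ) ⊗ₜ[k] y φ b i) (fun i => α i - (β i : ℕ)) =
      (1 : Ru φ) ⊗ₜ[k] om (y φ b) (fun i => α i - (β i : ℕ)) :=
    (map_om (Algebra.TensorProduct.includeRight : Ru φ →ₐ[k] Ru φ ⊗[k] Ru φ).toRingHom.toMonoidHom (y φ b) _).symm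
  rw [h2, h3, Algebra.TensorProduct.tmul_mul_tmul, mul_one, one_mul]
  generalize (∏ i, (α i).choose (β i) : ℕ) = c
  rw [Algebra.smul_def, map_natCast]

/-- coordinates of the comultiplication -/
noncomputable def coordF (β γ : Fin n → Fin p) : Ru φ →ₗ[k] k :=
  (((basis φ b).tensorProduct (basis φ b)).coord (β, γ)) ∘ₗ (Δ φ).toLinearMap

theorem coordF_om (α : Fin n → ℕ) (hα : ∀ i, α i < p) (β γ : Fin n → Fin p) :
    coordF φ b β γ (om (y φ b) α) =
      if ∀ i, α i = β i + γ i then ((∏ i, (α i).choose (β i) : ℕ) : k) else 0 := by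
  unfold coordF
  rw [LinearMap.comp_apply, AlgHom.toLinearMap_apply, Δ_om, map_sum]
  have hterm : ∀ β' : (i : Fin n) → Fin (α i + 1),
      ((basis φ b).tensorProduct (basis φ b)).coord (β, γ)
        (((∏ i, (α i).choose (β' i) : ℕ) : k) •
        (om (y φ b) (fun i => (β' i : ℕ)) ⊗ₜ[k] om (y φ b) (fun i => α i - β' i))) =
      ((∏ i, (α i).choose (β' i) : ℕ) : k) *
        ((if (∀ i, α i - (β' i : ℕ) = γ i) then 1 else 0) * (if (∀ i, (β' i : ℕ) = β i) then 1 else 0)) := by
    intro β'
    rw [map_smul, Module.Basis.coord_apply, Module.Basis.tensorProduct_repr_tmul_apply,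
      repr_om φ b _ (fun i => lt_of_le_of_lt (Nat.le_of_lt_succ (β' i).2) (hα i)),
      repr_om φ b _ (fun i => lt_of_le_of_lt (Nat.sub_le _ _) (hα i))]
    rfl
  rw [Finset.sum_congr rfl fun β' _ => hterm β']
  by_cases h : ∀ i, α i = β i + γ i
  · rw [if_pos h]
    let β₀ : (i : Fin n) → Fin (α i + 1) := fun i => ⟨β i, by have := h i; omega⟩
    rw [Finset.sum_eq_single β₀]
    · rw [if_pos, if_pos, mul_one, mul_one]
      · intro i; rfl
      · intro i
        change α i - (β i : ℕ) = γ i
        have := h i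
        omega
    · intro β' _ hne
      have : ¬ (∀ i, (β' i : ℕ) = β i) := fun h' => hne (funext fun i => Fin.ext (h' i))
      rw [if_neg this, mul_zero, mul_zero]
    · intro h'
      exact absurd (Finset.mem_univ _) h'
  · rw [if_neg h]
    refine Finset.sum_eq_zero fun β' _ => ?_
    by_cases h1 : ∀ i, (β' i : ℕ) = β i
    · rw [if_neg, zero_mul, mul_zero]
      intro h2
      apply h
      intro i
      have a1 := h1 i
      have a2 := h2 i
      have a3 := Nat.le_of_lt_succ (β' i).2
      omega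
    · rw [if_neg h1, mul_zero, mul_zero]

theorem coordF_apply (r : Ru φ) (α β γ : Fin n → Fin p) (h : ∀ i, (α i : ℕ) = β i + γ i) :
    coordF φ b β γ r = (basis φ b).repr r α * ((∏ i, (α i : ℕ).choose (β i) : ℕ) : k) := by
  conv_lhs => rw [← (basis φ b).sum_repr r]
  rw [map_sum, Finset.sum_eq_single α]
  · rw [map_smul, basis_apply]
    change _ • coordF φ b β γ (om (y φ b) (fun i => (α i : ℕ))) = _
    rw [coordF_om φ b _ (fun i => (α i).2), if_pos h]
    rfl
  · intro α' _ hne
    rw [map_smul, basis_apply]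
    change _ • coordF φ b β γ (om (y φ b) (fun i => (α' i : ℕ))) = _
    rw [coordF_om φ b _ (fun i => (α' i).2), if_neg, smul_zero]
    intro h'
    apply hne
    funext i
    apply Fin.ext
    rw [h', h]
  · intro h'
    exact absurd (Finset.mem_univ _) h'

/-- the zero exponent -/
def zexp (p : ℕ) [hp : Fact p.Prime] {n : ℕ} : Fin n → Fin p := fun _ => ⟨0, hp.out.pos⟩

theorem repr_one (β : Fin n → Fin p) : (basis φ b).repr 1 β = if β = zexp p then 1 else 0 := by
  have h1 : (1 : Ru φ) = om (y φ b) 0 := by simp [om]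
  rw [h1, repr_om φ b 0 (fun i => hp.out.pos)]
  congr 1
  rw [eq_iff_iff]
  constructor
  · intro h
    funext i
    exact Fin.ext (h i).symm
  · rintro rfl i
    rfl

theorem coordF_prim (r : Ru φ) (hr : Δ φ r = r ⊗ₜ[k] 1 + 1 ⊗ₜ[k] r) (β γ : Fin n → Fin p) :
    coordF φ b β γ r = (if γ = zexp p then (basis φ b).repr r β else 0) +
      (if β = zexp p then (basis φ b).repr r γ else 0) := by
  unfold coordF
  rw [LinearMap.comp_apply, AlgHom.toLinearMap_apply, hr, map_add, Module.Basis.coord_apply,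
    Module.Basis.coord_apply, Module.Basis.tensorProduct_repr_tmul_apply,
    Module.Basis.tensorProduct_repr_tmul_apply, repr_one, repr_one]
  congr 1
  · split_ifs <;> simp
  · split_ifs <;> simp

include b in
/-- primitive elements of the restricted enveloping algebra lie in `L` -/
theorem mem_range_of_prim' (r : Ru φ) (hr : Δ φ r = r ⊗ₜ[k] 1 + 1 ⊗ₜ[k] r) :
    r ∈ LinearMap.range (ιu φ) := by
  rw [← (basis φ b).sum_repr r]
  refine Submodule.sum_mem _ fun α _ => ?_
  by_cases h0 : α = zexp p
  · have h1 := coordF_apply φ b r α (zexp p) (zexp p) (fun i => by rw [h0]; rfl)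
    rw [coordF_prim φ b r hr, if_pos rfl, h0] at h1
    have h2 : ((∏ i : Fin n, ((zexp p : Fin n → Fin p) i : ℕ).choose ((zexp p : Fin n → Fin p) i) : ℕ) : k) = 1 := by
      have : ∀ i : Fin n, ((zexp p : Fin n → Fin p) i : ℕ).choose ((zexp p : Fin n → Fin p) i) = 1 :=
        fun i => Nat.choose_self _
      rw [Finset.prod_congr rfl fun i _ => this i, Finset.prod_const_one, Nat.cast_one]
    rw [h2, mul_one] at h1
    have h3 : (basis φ b).repr r (zexp p) = 0 := by
      have := congrArg (fun t => t - (basis φ b).repr r (zexp p)) h1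
      simpa using this
    rw [h0, h3, zero_smul]
    exact zero_mem _
  · obtain ⟨i, hi⟩ : ∃ i, 0 < (α i : ℕ) := by
      by_contra hcon
      push Not at hcon
      apply h0
      funext i
      exact Fin.ext (Nat.le_zero.mp (hcon i))
    let γ : Fin n → Fin p := fun j => if j = i then ⟨α i - 1, lt_of_le_of_lt (Nat.sub_le _ _) (α i).2⟩ else α j
    have hαγ : ∀ j, (α j : ℕ) = (sgl p i j : Fin p) + γ j := by
      intro j
      unfold sgl
      change (α j : ℕ) = _ + ((if j = i then ⟨α i - 1, _⟩ else α j : Fin p) : ℕ)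
      by_cases hj : j = i
      · subst hj
        rw [if_pos rfl, if_pos rfl]
        change (α j : ℕ) = 1 + (α j - 1)
        omega
      · rw [if_neg hj, if_neg hj]
        change (α j : ℕ) = 0 + α j
        omega
    by_cases hγ : γ = zexp p
    · have h1 : α = sgl p i := by
        funext j
        apply Fin.ext
        rw [hαγ j, hγ]
        rfl
      rw [h1, ← ιu_basis]
      exact Submodule.smul_mem _ _ ⟨b i, rfl⟩
    · have h1 := coordF_apply φ b r α (sgl p i) γ hαγ
      have hs : sgl p i ≠ (zexp p : Fin n → Fin p) := by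
        intro h
        have := congrArg (fun f : Fin n → Fin p => (f i : ℕ)) h
        simp [sgl, zexp] at this
      rw [coordF_prim φ b r hr, if_neg hγ, if_neg hs, add_zero] at h1
      have h2 : ((∏ j, (α j : ℕ).choose (sgl p i j : Fin p) : ℕ) : k) = ((α i : ℕ) : k) := by
        congr 1
        rw [Finset.prod_eq_single i]
        · unfold sgl
          rw [if_pos rfl]
          exact Nat.choose_one_right _
        · intro j _ hj
          unfold sgl
          rw [if_neg hj]
          exact Nat.choose_zero_right _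
        · intro h'
          exact absurd (Finset.mem_univ _) h'
      rw [h2] at h1
      have h3 : ((α i : ℕ) : k) ≠ 0 := by
        rw [Ne, CharP.cast_eq_zero_iff k p]
        intro hdvd
        exact absurd (Nat.le_of_dvd hi hdvd) (not_le.mpr (α i).2)
      have h4 : (basis φ b).repr r α = 0 := (mul_eq_zero.mp h1.symm).resolve_right h3
      rw [h4, zero_smul]
      exact zero_mem _

theorem mem_range_of_prim [Module.Finite k L] (r : Ru φ) (hr : Δ φ r = r ⊗ₜ[k] 1 + 1 ⊗ₜ[k] r) :
    r ∈ LinearMap.range (ιu φ) :=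
  mem_range_of_prim' φ (Module.finBasis k L) r hr

end K796.Prim
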