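import Groth.Agent.PLie.K796.Central
import Mathlib.RingTheory.Ideal.Quotient.Operations
import Mathlib.LinearAlgebra.TensorAlgebra.Basic
import Mathlib.LinearAlgebra.Dimension.Free
import Mathlib.LinearAlgebra.FreeModule.Finite.Basic
import Mathlib.LinearAlgebra.Basis.VectorSpace

/-!
The restricted enveloping algebra of a `p`-Lie algebra over a field: universal property and (in finite dimension)
the restricted PBW basis.
-/

set_option autoImplicit false
universe u v w

open PLie

namespace K796.Restr

open Groth.Agent.S3312 K796.Filt K796.Central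

attribute [local instance] LieRing.ofAssociativeRing

variable {k : Type u} [Field k] {p : ℕ} [hp : Fact p.Prime] [CharP k p]
  {L : Type v} [LieRing L] [LieAlgebra k L] (φ : PMap k p L)

theorem commute_zc' (x : L) (u : UniversalEnvelopingAlgebra k L) : Commute (zc φ x) u := by
  obtain ⟨t, rfl⟩ : ∃ t, UniversalEnvelopingAlgebra.mkAlgHom k L t = u :=
    RingCon.mkₐ_surjective _ u
  induction t using TensorAlgebra.induction with
  | algebraMap r =>
    rw [AlgHom.commutes]
    exact Algebra.commutes' r _ |>.symm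
  | ι y => exact commute_zc_ι φ x y
  | mul s t hs ht =>
    rw [map_mul]
    exact hs.mul_right ht
  | add s t hs ht =>
    rw [map_add]
    exact hs.add_right ht

/-- the ideal of relations -/
def I : Ideal (UniversalEnvelopingAlgebra k L) := Ideal.span (Set.range (zc φ))

instance isTwoSided_I : (I φ).IsTwoSided := ⟨fun {a} c ha => by
  refine Submodule.span_induction (p := fun a _ => a * c ∈ I φ) ?_ ?_ ?_ ?_ ha
  · rintro _ ⟨x, rfl⟩
    rw [(commute_zc' φ x c).eq]
    exact Ideal.mul_mem_left _ _ (Ideal.subset_span ⟨x, rfl⟩)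
  · rw [zero_mul]; exact zero_mem _
  · intro x y _ _ hx hy
    rw [add_mul]; exact add_mem hx hy
  · intro r x _ hx
    rw [smul_eq_mul, mul_assoc]; exact Ideal.mul_mem_left _ _ hx⟩

/-- the restricted enveloping algebra -/
def Ru : Type _ := UniversalEnvelopingAlgebra k L ⧸ I φ

noncomputable instance : Ring (Ru φ) := inferInstanceAs (Ring (UniversalEnvelopingAlgebra k L ⧸ I φ))
noncomputable instance : Algebra k (Ru φ) :=
  inferInstanceAs (Algebra k (UniversalEnvelopingAlgebra k L ⧸ I φ))

/-- the projection -/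
noncomputable def mk : UniversalEnvelopingAlgebra k L →ₐ[k] Ru φ := Ideal.Quotient.mkₐ k (I φ)

theorem mk_surjective : Function.Surjective (mk φ) := Ideal.Quotient.mkₐ_surjective k (I φ)

theorem mk_eq_zero_iff (u : UniversalEnvelopingAlgebra k L) : mk φ u = 0 ↔ u ∈ I φ :=
  Ideal.Quotient.eq_zero_iff_mem

/-- the canonical map -/
noncomputable def ιu : L →ₗ[k] Ru φ :=
  (mk φ).toLinearMap ∘ₗ (UniversalEnvelopingAlgebra.ι k : L →ₗ⁅k⁆ UniversalEnvelopingAlgebra k L).toLinearMap

theorem ιu_apply (x : L) : ιu φ x = mk φ (UniversalEnvelopingAlgebra.ι k x) := rfl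

theorem ιu_lie (x y : L) : ιu φ ⁅x, y⁆ = ιu φ x * ιu φ y - ιu φ y * ιu φ x := by
  rw [ιu_apply, LieHom.map_lie, LieRing.of_associative_ring_bracket, map_sub, map_mul, map_mul]
  rfl

theorem ιu_pmap (x : L) : ιu φ (φ x) = ιu φ x ^ p := by
  have h : mk φ (zc φ x) = 0 := (mk_eq_zero_iff φ _).mpr (Ideal.subset_span ⟨x, rfl⟩)
  unfold zc at h
  rw [map_sub, map_pow, sub_eq_zero] at h
  exact h.symm

section Universal

variable {φ} {B : Type w} [Ring B] [Algebra k B]

/-- the universal property -/
noncomputable def lift (f : L →ₗ[k] B) (hlie : ∀ x y : L, f ⁅x, y⁆ = f x * f y - f y * f x)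
    (hpm : ∀ x : L, f (φ x) = f x ^ p) : Ru φ →ₐ[k] B :=
  Ideal.Quotient.liftₐ (I φ)
    (UniversalEnvelopingAlgebra.lift k ({ f with map_lie' := fun {x y} => hlie x y } : L →ₗ⁅k⁆ B))
    (fun a ha => by
      refine Submodule.span_induction (p := fun a _ => UniversalEnvelopingAlgebra.lift k
        ({ f with map_lie' := fun {x y} => hlie x y } : L →ₗ⁅k⁆ B) a = 0) ?_ ?_ ?_ ?_ ha
      · rintro _ ⟨x, rfl⟩
        unfold zc
        rw [map_sub, map_pow, UniversalEnvelopingAlgebra.lift_ι_apply,
          UniversalEnvelopingAlgebra.lift_ι_apply]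
        exact sub_eq_zero.mpr (hpm x).symm
      · exact map_zero _
      · intro x y _ _ hx hy
        rw [map_add, hx, hy, add_zero]
      · intro r x _ hx
        rw [smul_eq_mul, map_mul, hx, mul_zero])

theorem lift_ιu (f : L →ₗ[k] B) (hlie : ∀ x y : L, f ⁅x, y⁆ = f x * f y - f y * f x)
    (hpm : ∀ x : L, f (φ x) = f x ^ p) (x : L) : lift f hlie hpm (ιu φ x) = f x :=
  UniversalEnvelopingAlgebra.lift_ι_apply k _ x

theorem hom_ext {f g : Ru φ →ₐ[k] B} (h : ∀ x : L, f (ιu φ x) = g (ιu φ x)) : f = g := by
  have h1 : f.comp (mk φ) = g.comp (mk φ) := by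
    apply UniversalEnvelopingAlgebra.hom_ext
    ext x
    exact h x
  ext a
  obtain ⟨u, rfl⟩ := mk_surjective φ a
  exact AlgHom.congr_fun h1 u

end Universal

section Basis

variable {n : ℕ} (b : Module.Basis (Fin n) k L)

/-- projection to the restricted monomials -/
noncomputable def proj : UniversalEnvelopingAlgebra k L →ₗ[k] ((Fin n → Fin p) →₀ k) :=
  (adapted φ b).constr k fun α =>
    if h : ∀ i, α i < p then Finsupp.single (fun i => (⟨α i, h i⟩ : Fin p)) 1 else 0

theorem proj_N (α : Fin n → ℕ) : proj φ b (N φ b α) =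
    if h : ∀ i, α i < p then Finsupp.single (fun i => (⟨α i, h i⟩ : Fin p)) 1 else 0 := by
  rw [← adapted_apply]
  exact (adapted φ b).constr_basis k _ α

theorem proj_mul_zb (u : UniversalEnvelopingAlgebra k L) (i : Fin n) : proj φ b (u * zb φ b i) = 0 := by
  have h : (proj φ b) ∘ₗ (LinearMap.mulRight k (zb φ b i)) = 0 := by
    refine (adapted φ b).ext fun α => ?_
    rw [LinearMap.comp_apply, LinearMap.mulRight_apply, adapted_apply, N_mul_zb, proj_N, dif_neg]
    · rfl
    · intro h
      have := h i
      simp at this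
  exact LinearMap.congr_fun h u

theorem zc_eq_sum (x : L) : zc φ x = ∑ i, (b.repr x i) ^ p • zb φ b i := by
  conv_lhs => rw [← b.sum_repr x]
  have h : ∀ (s : Finset (Fin n)), zc φ (∑ i ∈ s, b.repr x i • b i) = ∑ i ∈ s, (b.repr x i) ^ p • zb φ b i := by
    intro s
    induction s using Finset.induction_on with
    | empty =>
      rw [Finset.sum_empty, Finset.sum_empty]
      have := zc_smul φ (0 : k) (0 : L)
      rw [zero_smul, zero_pow hp.out.ne_zero, zero_smul] at this
      exact this
    | insert a s ha ih =>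
      rw [Finset.sum_insert ha, Finset.sum_insert ha, zc_add, zc_smul, ih]
      rfl
  exact h Finset.univ

theorem proj_I (u : UniversalEnvelopingAlgebra k L) (hu : u ∈ I φ) : proj φ b u = 0 := by
  have key : ∀ c, proj φ b (c * u) = 0 := by
    refine Submodule.span_induction (p := fun a _ => ∀ c, proj φ b (c * a) = 0) ?_ ?_ ?_ ?_ hu
    · rintro _ ⟨x, rfl⟩ c
      rw [zc_eq_sum φ b, Finset.mul_sum, map_sum]
      refine Finset.sum_eq_zero fun i _ => ?_
      rw [mul_smul_comm, map_smul, proj_mul_zb, smul_zero]
    · intro c; rw [mul_zero, map_zero]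
    · intro x y _ _ hx hy c
      rw [mul_add, map_add, hx, hy, add_zero]
    · intro r x _ hx c
      rw [smul_eq_mul, ← mul_assoc]; exact hx _
  have := key 1
  rwa [one_mul] at this

/-- the restricted monomials -/
noncomputable def rmon (β : Fin n → Fin p) : Ru φ := om (fun i => ιu φ (b i)) (fun i => (β i : ℕ))

theorem map_om {M M' : Type*} [Monoid M] [Monoid M'] (f : M →* M') (y : Fin n → M) (α : Fin n → ℕ) :
    f (om y α) = om (fun i => f (y i)) α := by
  unfold om
  rw [map_list_prod, List.map_map]
  congr 2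
  funext i
  simp

theorem rmon_eq (β : Fin n → Fin p) : rmon φ b β = mk φ (N φ b fun i => (β i : ℕ)) := by
  unfold N
  have h1 : (fun i => (β i : ℕ) % p) = fun i => (β i : ℕ) := funext fun i => Nat.mod_eq_of_lt (β i).2
  have h2 : (fun i => (β i : ℕ) / p) = 0 := funext fun i => Nat.div_eq_of_lt (β i).2
  rw [h1, h2]
  have h3 : om (zb φ b) (0 : Fin n → ℕ) = 1 := by
    unfold om
    simp
  rw [h3, mul_one]
  have := map_om (mk φ).toRingHom.toMonoidHom (gen b) (fun i => (β i : ℕ))
  exact this.symm

theorem linearIndependent_rmon : LinearIndependent k (rmon φ b) := by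
  let π : Ru φ →ₗ[k] ((Fin n → Fin p) →₀ k) :=
    ((I φ).restrictScalars k).liftQ (proj φ b) (fun u hu => proj_I φ b u hu)
  have hπ : ∀ u, π (mk φ u) = proj φ b u := fun u => rfl
  apply LinearIndependent.of_comp π
  have h : (π ∘ rmon φ b) = fun β => Finsupp.single β (1 : k) := by
    funext β
    rw [Function.comp_apply, rmon_eq, hπ, proj_N, dif_pos (fun i => (β i).2)]
  rw [h]
  exact (Finsupp.basisSingleOne (R := k) (ι := Fin n → Fin p)).linearIndependent

theorem span_rmon : ⊤ ≤ Submodule.span k (Set.range (rmon φ b)) := by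
  intro a _
  obtain ⟨u, rfl⟩ := mk_surjective φ a
  have hu : u ∈ Submodule.span k (Set.range (adapted φ b)) := by rw [(adapted φ b).span_eq]; trivial
  refine Submodule.span_induction (p := fun u _ => mk φ u ∈ Submodule.span k (Set.range (rmon φ b)))
    ?_ ?_ ?_ ?_ hu
  · rintro _ ⟨α, rfl⟩
    rw [adapted_apply]
    by_cases h : ∀ i, α i < p
    · refine Submodule.subset_span ⟨fun i => ⟨α i, h i⟩, ?_⟩
      rw [rmon_eq]
    · push Not at h
      obtain ⟨i, hi⟩ := h
      have h1 : α = (α - Pi.single i p) + Pi.single i p := by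
        funext j
        by_cases hj : j = i
        · subst hj
          simp only [Pi.add_apply, Pi.sub_apply, Pi.single_eq_same]
          omega
        · simp [Pi.single_eq_of_ne hj]
      have h2 : mk φ (zb φ b i) = 0 := (mk_eq_zero_iff φ _).mpr (Ideal.subset_span ⟨b i, rfl⟩)
      rw [h1, ← N_mul_zb, map_mul, h2, mul_zero]
      exact zero_mem _
  · rw [map_zero]; exact zero_mem _
  · intro x y _ _ hx hy
    rw [map_add]; exact add_mem hx hy
  · intro c x _ hx
    rw [map_smul]; exact Submodule.smul_mem _ _ hx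

/-- the restricted PBW basis -/
noncomputable def basis : Module.Basis (Fin n → Fin p) k (Ru φ) :=
  Module.Basis.mk (linearIndependent_rmon φ b) (span_rmon φ b)

theorem basis_apply (β : Fin n → Fin p) : basis φ b β = rmon φ b β := Module.Basis.mk_apply _ _ _

theorem finite_Ru [Module.Finite k L] : Module.Finite k (Ru φ) := by
  let b := Module.finBasis k L
  exact Module.Finite.of_basis (basis φ b)

theorem om_single {M : Type*} [Monoid M] (y : Fin n → M) (i : Fin n) :
    om y (fun j => if j = i then 1 else 0) = y i := by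
  have h : lst (fun j => if j = i then 1 else 0) = [i] := by
    have h1 : [i].Perm (lst fun j => if j = i then 1 else 0) := by
      rw [perm_lst_iff]
      intro j
      rw [List.count_singleton]
      by_cases hj : j = i
      · simp [hj]
      · have : ¬ (i = j) := fun h => hj h.symm
        simp [hj, this]
    exact (h1.eq_of_sortedLE ((List.pairwise_singleton _ i).sortedLE) (sorted_lst _)).symm
  rw [← prod_map_lst, h]
  simp

/-- the exponent vector of a basis vector -/
def sgl (p : ℕ) [hp : Fact p.Prime] {n : ℕ} (i : Fin n) : Fin n → Fin p :=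
  fun j => if j = i then ⟨1, hp.out.one_lt⟩ else ⟨0, hp.out.pos⟩

theorem sgl_injective (p : ℕ) [hp : Fact p.Prime] {n : ℕ} :
    Function.Injective (sgl p : Fin n → (Fin n → Fin p)) := by
  intro i j h
  by_contra hij
  have := congrFun h i
  unfold sgl at this
  rw [if_pos rfl, if_neg hij] at this
  exact absurd (congrArg Fin.val this) one_ne_zero

theorem ιu_basis (i : Fin n) : ιu φ (b i) = basis φ b (sgl p i) := by
  rw [basis_apply]
  unfold rmon
  have h : (fun j => ((sgl p i j : Fin p) : ℕ)) = fun j => if j = i then 1 else 0 := by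
    funext j
    unfold sgl
    split_ifs <;> rfl
  rw [h, om_single]

include b in
theorem ιu_injective' : Function.Injective (ιu φ) := by
  have hli : LinearIndependent k (fun i => ιu φ (b i)) := by
    have h2 := (basis φ b).linearIndependent.comp (sgl p : Fin n → (Fin n → Fin p)) (sgl_injective p)
    have h3 : (fun i => ιu φ (b i)) = (basis φ b) ∘ sgl p := funext fun i => ιu_basis φ b i
    rw [h3]
    exact h2
  rw [← LinearMap.ker_eq_bot, LinearMap.ker_eq_bot']
  intro x hx
  rw [← b.linearCombination_repr x, LinearMap.map_finsupp_linearCombination] at hx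
  have := (linearIndependent_iff.mp hli) (b.repr x) hx
  rw [← b.linearCombination_repr x, this, map_zero]

theorem ιu_injective [Module.Finite k L] : Function.Injective (ιu φ) :=
  ιu_injective' φ (Module.finBasis k L)

end Basis

end K796.Restr
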