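import Mathlib.Algebra.Lie.OfAssociative
import Mathlib.LinearAlgebra.Basis.Basic
import Mathlib.Algebra.DualNumber
import Mathlib.Tactic.Module
import Mathlib.Tactic.Ring
import Mathlib.Tactic.LinearCombination
import Mathlib.Tactic.FinCases

/-!
Coordinates in a three-dimensional Lie algebra.
-/

set_option autoImplicit false
universe u v w

namespace K796.Three

section Basic

variable {R : Type u} [CommRing R] {L : Type v} [LieRing L] [LieAlgebra R L] (bs : Module.Basis (Fin 3) R L)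

/-- a linear combination of the three basis vectors -/
noncomputable def comb (r₀ r₁ r₂ : R) : L := r₀ • bs 0 + r₁ • bs 1 + r₂ • bs 2

theorem comb_inj {r₀ r₁ r₂ s₀ s₁ s₂ : R} :
    comb bs r₀ r₁ r₂ = comb bs s₀ s₁ s₂ ↔ r₀ = s₀ ∧ r₁ = s₁ ∧ r₂ = s₂ := by
  constructor
  · intro h
    have hr : ∀ (r₀ r₁ r₂ : R), bs.repr (comb bs r₀ r₁ r₂) 0 = r₀ ∧ bs.repr (comb bs r₀ r₁ r₂) 1 = r₁ ∧
        bs.repr (comb bs r₀ r₁ r₂) 2 = r₂ := by
      intro r₀ r₁ r₂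
      unfold comb
      simp only [map_add, map_smul, Module.Basis.repr_self, Finsupp.add_apply, Finsupp.smul_apply,
        smul_eq_mul, Finsupp.single_eq_same]
      rw [Finsupp.single_eq_of_ne (by decide), Finsupp.single_eq_of_ne (by decide),
        Finsupp.single_eq_of_ne (by decide), Finsupp.single_eq_of_ne (by decide),
        Finsupp.single_eq_of_ne (by decide), Finsupp.single_eq_of_ne (by decide)]
      simp
    obtain ⟨a0, a1, a2⟩ := hr r₀ r₁ r₂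
    obtain ⟨b0, b1, b2⟩ := hr s₀ s₁ s₂
    rw [h] at a0 a1 a2
    exact ⟨a0.symm.trans b0, a1.symm.trans b1, a2.symm.trans b2⟩
  · rintro ⟨rfl, rfl, rfl⟩
    rfl

theorem exists_comb (w : L) : ∃ r₀ r₁ r₂ : R, w = comb bs r₀ r₁ r₂ := by
  refine ⟨bs.repr w 0, bs.repr w 1, bs.repr w 2, ?_⟩
  have := bs.sum_repr w
  rw [Fin.sum_univ_three] at this
  exact this.symm

theorem comb_x : bs 0 = comb bs 1 0 0 := by simp [comb]
theorem comb_y : bs 1 = comb bs 0 1 0 := by simp [comb]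
theorem comb_z : bs 2 = comb bs 0 0 1 := by simp [comb]
theorem comb_zero : (0 : L) = comb bs 0 0 0 := by simp [comb]

theorem comb_neg (r₀ r₁ r₂ : R) : - comb bs r₀ r₁ r₂ = comb bs (-r₀) (-r₁) (-r₂) := by
  unfold comb; module

theorem comb_add (r₀ r₁ r₂ s₀ s₁ s₂ : R) :
    comb bs r₀ r₁ r₂ + comb bs s₀ s₁ s₂ = comb bs (r₀ + s₀) (r₁ + s₁) (r₂ + s₂) := by
  unfold comb; module

theorem comb_smul (c r₀ r₁ r₂ : R) : c • comb bs r₀ r₁ r₂ = comb bs (c * r₀) (c * r₁) (c * r₂) := by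
  unfold comb; module

variable {A0 A1 A2 B0 B1 B2 C0 C1 C2 : R}
  (hxy : ⁅bs 0, bs 1⁆ = comb bs A0 A1 A2) (hxz : ⁅bs 0, bs 2⁆ = comb bs B0 B1 B2)
  (hyz : ⁅bs 1, bs 2⁆ = comb bs C0 C1 C2)

include hxy hxz hyz in
theorem lie_comb (u0 u1 u2 v0 v1 v2 : R) :
    ⁅comb bs u0 u1 u2, comb bs v0 v1 v2⁆ =
      comb bs
        ((u0 * v1 - u1 * v0) * A0 + (u0 * v2 - u2 * v0) * B0 + (u1 * v2 - u2 * v1) * C0)
        ((u0 * v1 - u1 * v0) * A1 + (u0 * v2 - u2 * v0) * B1 + (u1 * v2 - u2 * v1) * C1)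
        ((u0 * v1 - u1 * v0) * A2 + (u0 * v2 - u2 * v0) * B2 + (u1 * v2 - u2 * v1) * C2) := by
  have hyx : ⁅bs 1, bs 0⁆ = - comb bs A0 A1 A2 := by rw [← lie_skew, hxy]
  have hzx : ⁅bs 2, bs 0⁆ = - comb bs B0 B1 B2 := by rw [← lie_skew, hxz]
  have hzy : ⁅bs 2, bs 1⁆ = - comb bs C0 C1 C2 := by rw [← lie_skew, hyz]
  have h1 : ⁅comb bs u0 u1 u2, comb bs v0 v1 v2⁆ =
      (u0 * v1 - u1 * v0) • comb bs A0 A1 A2 + (u0 * v2 - u2 * v0) • comb bs B0 B1 B2 +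
        (u1 * v2 - u2 * v1) • comb bs C0 C1 C2 := by
    conv_lhs => unfold comb
    simp only [add_lie, lie_add, smul_lie, lie_smul, lie_self, hxy, hxz, hyz, hyx, hzx, hzy]
    module
  rw [h1, comb_smul, comb_smul, comb_smul, comb_add, comb_add]

theorem ext_comb (f g : L →ₗ[R] L) (h0 : f (bs 0) = g (bs 0)) (h1 : f (bs 1) = g (bs 1))
    (h2 : f (bs 2) = g (bs 2)) : f = g := by
  refine bs.ext fun i => ?_
  fin_cases i
  · exact h0
  · exact h1
  · exact h2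

end Basic

end K796.Three
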