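import Groth.Prelude.Def_PLie
import Mathlib.Algebra.Lie.Engel
import Mathlib.Algebra.Lie.TraceForm
import Mathlib.Algebra.Lie.Normalizer
import Mathlib.RingTheory.Noetherian.Basic

/-!
If a Lie subalgebra `U` acts nilpotently on `L` and `H` normalises `U`, then `U` and `H` are orthogonal for the
Killing form.
-/

set_option autoImplicit false
universe u v w

namespace K796.TraceU

variable {k : Type u} [Field k] {L : Type v} [LieRing L] [LieAlgebra k L] [Module.Finite k L]

theorem exists_filtration (U : LieSubalgebra k L) (hU : ∀ x ∈ U, IsNilpotent (LieAlgebra.ad k L x)) :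
    ∃ (m : ℕ) (F : ℕ → Submodule k L), F 0 = ⊤ ∧ F m = ⊥ ∧
      (∀ n, F (n + 1) = Submodule.span k {z | ∃ x ∈ U, ∃ y ∈ F n, ⁅x, y⁆ = z}) := by
  have h1 : LieModule.IsNilpotent U L := by
    rw [LieModule.isNilpotent_iff_forall (R := k)]
    intro x
    obtain ⟨n, hn⟩ := hU x x.2
    refine ⟨n, ?_⟩
    ext y
    have h2 : ∀ n, ((LieModule.toEnd k U L x) ^ n) y = ((LieAlgebra.ad k L (x : L)) ^ n) y := by
      intro n
      induction n with
      | zero => rfl
      | succ n ih =>
        rw [pow_succ', pow_succ', Module.End.mul_apply, Module.End.mul_apply, ← ih]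
        rfl
    rw [h2, hn]
  obtain ⟨m, hm⟩ := (LieModule.isNilpotent_iff k U L).mp h1
  refine ⟨m, fun n => (LieModule.lowerCentralSeries k U L n).toSubmodule, ?_, ?_, ?_⟩
  · simp
  · simp [hm]
  · intro n
    change (LieModule.lowerCentralSeries k U L (n + 1)).toSubmodule = _
    rw [LieModule.lowerCentralSeries_succ, LieSubmodule.lieIdeal_oper_eq_linear_span']
    congr 1
    ext z
    constructor
    · rintro ⟨x, -, y, hy, rfl⟩
      exact ⟨x, x.2, y, hy, rfl⟩
    · rintro ⟨x, hx, y, hy, rfl⟩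
      exact ⟨⟨x, hx⟩, LieSubmodule.mem_top _, y, hy, rfl⟩

theorem killing_eq_zero (U : LieSubalgebra k L) (hU : ∀ x ∈ U, IsNilpotent (LieAlgebra.ad k L x))
    (h : L) (hh : ∀ x ∈ U, ⁅h, x⁆ ∈ U) (x : L) (hx : x ∈ U) : killingForm k L h x = 0 := by
  obtain ⟨m, F, hF0, hFm, hF⟩ := exists_filtration U hU
  have hst : ∀ n, ∀ y ∈ F n, ⁅h, y⁆ ∈ F n := by
    intro n
    induction n with
    | zero => intro y _; rw [hF0]; exact Submodule.mem_top
    | succ n ih =>
      intro y hy
      rw [hF] at hy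
      refine Submodule.span_induction (p := fun y _ => ⁅h, y⁆ ∈ F (n + 1)) ?_ ?_ ?_ ?_ hy
      · rintro z ⟨a, ha, b, hb, rfl⟩
        rw [leibniz_lie, hF]
        exact add_mem (Submodule.subset_span ⟨_, hh a ha, b, hb, rfl⟩)
          (Submodule.subset_span ⟨a, ha, _, ih b hb, rfl⟩)
      · rw [lie_zero]; exact zero_mem _
      · intro a b _ _ ha hb
        rw [lie_add]; exact add_mem ha hb
      · intro c a _ ha
        rw [lie_smul]; exact Submodule.smul_mem _ _ ha
  have hstep : ∀ n, ∀ y ∈ F n, ⁅h, ⁅x, y⁆⁆ ∈ F (n + 1) := by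
    intro n y hy
    refine hst _ _ ?_
    rw [hF]
    exact Submodule.subset_span ⟨x, hx, y, hy, rfl⟩
  have hpow : ∀ (n : ℕ) (y : L), ((LieAlgebra.ad k L h ∘ₗ LieAlgebra.ad k L x) ^ n) y ∈ F n := by
    intro n
    induction n with
    | zero => intro y; rw [hF0]; exact Submodule.mem_top
    | succ n ih =>
      intro y
      rw [pow_succ', Module.End.mul_apply]
      exact hstep n _ (ih y)
  have hnil : IsNilpotent (LieAlgebra.ad k L h ∘ₗ LieAlgebra.ad k L x) := by
    refine ⟨m, ?_⟩
    ext y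
    have := hpow m y
    rw [hFm, Submodule.mem_bot] at this
    rw [this, LinearMap.zero_apply]
  rw [killingForm_apply_apply]
  exact (LinearMap.isNilpotent_trace_of_isNilpotent hnil).eq_zero

end K796.TraceU
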