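import Groth.Agent.PLie.K796.Filt
import Mathlib.Algebra.Ring.GeomSum

/-!
Unitriangular change of the PBW basis.
-/

set_option autoImplicit false
universe u v w

namespace K796.Unitri

open Groth.Agent.S3312 K796.Filt

variable {k : Type u} [Field k] {L : Type v} [LieRing L] [LieAlgebra k L] {n : ℕ}
  (b : Module.Basis (Fin n) k L) (N : (Fin n → ℕ) → UniversalEnvelopingAlgebra k L)
  (hN0 : N 0 = 1) (hN : ∀ α m, ∑ i, α i ≤ m + 1 → N α - om (gen b) α ∈ U b m)

/-- the unitriangular endomorphism -/
noncomputable def T : UniversalEnvelopingAlgebra k L →ₗ[k] UniversalEnvelopingAlgebra k L :=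
  (pbw b).constr k N

theorem T_om (α : Fin n → ℕ) : T b N (om (gen b) α) = N α := by
  rw [← pbw_apply]
  exact (pbw b).constr_basis k N α

/-- its difference with the identity -/
noncomputable def S : Module.End k (UniversalEnvelopingAlgebra k L) := 1 - T b N

theorem S_apply (u : UniversalEnvelopingAlgebra k L) : S b N u = u - T b N u := rfl

include hN0 in
theorem sub_T_zero (u : UniversalEnvelopingAlgebra k L) (hu : u ∈ U b 0) : S b N u = 0 := by
  have hu' := U_le_span_om b 0 hu
  refine Submodule.span_induction (p := fun u _ => S b N u = 0) ?_ ?_ ?_ ?_ hu'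
  · rintro _ ⟨α, hα, rfl⟩
    have h0 : α = 0 := by
      funext i
      have := (Finset.sum_eq_zero_iff.mp (Nat.le_zero.mp hα)) i (Finset.mem_univ i)
      exact this
    subst h0
    rw [S_apply, T_om, hN0]
    simp [om]
  · simp
  · intro x y _ _ hx hy
    rw [map_add, hx, hy, add_zero]
  · intro a x _ hx
    rw [map_smul, hx, smul_zero]

include hN in
theorem sub_T_mem (m : ℕ) (u : UniversalEnvelopingAlgebra k L) (hu : u ∈ U b (m + 1)) :
    S b N u ∈ U b m := by
  have hu' := U_le_span_om b (m + 1) hu
  refine Submodule.span_induction (p := fun u _ => S b N u ∈ U b m) ?_ ?_ ?_ ?_ hu'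
  · rintro _ ⟨α, hα, rfl⟩
    rw [S_apply, T_om, ← neg_sub]
    exact Submodule.neg_mem _ (hN α m hα)
  · simp
  · intro x y _ _ hx hy
    rw [map_add]; exact Submodule.add_mem _ hx hy
  · intro a x _ hx
    rw [map_smul]; exact Submodule.smul_mem _ _ hx

include hN0 hN in
theorem pow_sub_T (m : ℕ) : ∀ (u : UniversalEnvelopingAlgebra k L), u ∈ U b m →
    ((S b N) ^ (m + 1)) u = 0 := by
  induction m with
  | zero => intro u hu; rw [zero_add, pow_one]; exact sub_T_zero b N hN0 u hu
  | succ m ih =>
    intro u hu
    rw [pow_succ, Module.End.mul_apply]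
    exact ih _ (sub_T_mem b N hN m u hu)

include hN0 hN in
theorem T_bijective : Function.Bijective (T b N) := by
  constructor
  · rw [injective_iff_map_eq_zero]
    intro u hu
    obtain ⟨m, hm⟩ := iSup_U b u
    have h1 : ∀ j : ℕ, ((S b N) ^ j) u = u := by
      intro j
      induction j with
      | zero => rfl
      | succ j ih =>
        rw [pow_succ', Module.End.mul_apply, ih, S_apply, hu, sub_zero]
    rw [← h1 (m + 1)]
    exact pow_sub_T b N hN0 hN m u hm
  · intro u
    obtain ⟨m, hm⟩ := iSup_U b u
    have h1 := pow_sub_T b N hN0 hN m u hm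
    refine ⟨(∑ i ∈ Finset.range (m + 1),
      (S b N) ^ i) u, ?_⟩
    have h2 : (1 - (S b N)) *
        (∑ i ∈ Finset.range (m + 1),
      (S b N) ^ i) =
        1 - (S b N) ^ (m + 1) :=
      mul_neg_geom_sum _ _
    have h3 : (1 - (S b N)) = T b N := by
      unfold S
      abel
    rw [h3] at h2
    have h4 := LinearMap.congr_fun h2 u
    rw [Module.End.mul_apply, LinearMap.sub_apply, h1, sub_zero] at h4
    exact h4

/-- the new basis -/
noncomputable def newBasis : Module.Basis (Fin n → ℕ) k (UniversalEnvelopingAlgebra k L) :=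
  (pbw b).map (LinearEquiv.ofBijective (T b N) (T_bijective b N hN0 hN))

theorem newBasis_apply (α : Fin n → ℕ) : newBasis b N hN0 hN α = N α := by
  unfold newBasis
  rw [Module.Basis.map_apply, LinearEquiv.ofBijective_apply, pbw_apply, T_om]

end K796.Unitri
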