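import Groth.Prelude.Def_PLie
import Mathlib.Algebra.Lie.Basic
import Mathlib.Tactic.Module
import Mathlib.Tactic.Abel

/-!
Basic facts on `PLie.bracketWord` and `PLie.jacobson`: naturality under Lie morphisms, vanishing, homogeneity.
-/

set_option autoImplicit false
universe u v w

open PLie

namespace K796.Words

section Word

variable {L : Type v} [LieRing L] {L' : Type w} [LieRing L']

theorem map_bracketWord {F : Type*} [FunLike F L L'] [AddMonoidHomClass F L L'] (f : F)
    (hf : ∀ x y : L, f ⁅x, y⁆ = ⁅f x, f y⁆) {ι : Type*} (x : ι → L) (y : L) (l : List ι) :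
    f (bracketWord x y l) = bracketWord (fun i => f (x i)) (f y) l := by
  induction l with
  | nil => rfl
  | cons i l ih => rw [bracketWord_cons, bracketWord_cons, hf, ih]

theorem bracketWord_zero {ι : Type*} (x : ι → L) (l : List ι) : bracketWord x 0 l = 0 := by
  induction l with
  | nil => rfl
  | cons i l ih => rw [bracketWord_cons, ih, lie_zero]

theorem bracketWord_append {ι : Type*} (x : ι → L) (y : L) (l l' : List ι) :
    bracketWord x y (l ++ l') = bracketWord x (bracketWord x y l') l := by
  induction l with
  | nil => rfl
  | cons i l ih => rw [List.cons_append, bracketWord_cons, ih, bracketWord_cons]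

theorem bracketWord_eq_zero_of_mem {ι : Type*} (x : ι → L) (y : L) (l : List ι) (i : ι) (hi : i ∈ l)
    (h0 : x i = 0) : bracketWord x y l = 0 := by
  induction l with
  | nil => simp at hi
  | cons j l ih =>
    rw [bracketWord_cons]
    rcases List.mem_cons.mp hi with h | h
    · rw [← h, h0, zero_lie]
    · rw [ih h, lie_zero]

/-- if the last bracket vanishes the whole word vanishes -/
theorem bracketWord_eq_zero_of_forall {ι : Type*} (x : ι → L) (y : L) (l : List ι) (hl : l ≠ [])
    (h : ∀ i, ⁅x i, y⁆ = 0) : bracketWord x y l = 0 := by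
  obtain ⟨l', i, rfl⟩ := List.eq_nil_or_concat l |>.resolve_left hl
  rw [List.concat_eq_append, bracketWord_append, bracketWord_cons, bracketWord_nil, h, bracketWord_zero]

end Word

section Jac

variable (R : Type u) [CommRing R] (p : ℕ) [CharP R p]
variable {L : Type v} [LieRing L] [LieAlgebra R L] {L' : Type w} [LieRing L'] [LieAlgebra R L']

theorem map_jacobson (f : L →ₗ⁅R⁆ L') (x y : L) :
    f (jacobson R p x y) = jacobson R p (f x) (f y) := by
  unfold jacobson
  rw [map_sum]
  refine Finset.sum_congr rfl fun t _ => ?_
  rw [_root_.map_smul, map_bracketWord f (fun a b => LieHom.map_lie f a b)]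
  congr 2
  funext b
  cases b <;> rfl

variable {p}

theorem jacobson_eq_zero_of_lie_eq_zero [hp : Fact p.Prime] (x y : L) (h : ⁅x, y⁆ = 0) :
    jacobson R p x y = 0 := by
  unfold jacobson
  refine Finset.sum_eq_zero fun t _ => ?_
  rw [bracketWord_eq_zero_of_forall, smul_zero]
  · intro h0
    have := congrArg List.length h0
    rw [List.length_ofFn, List.length_nil] at this
    have := hp.out.two_le
    omega
  · intro b
    cases b
    · simpa [pair] using h
    · simp [pair]

theorem jacobson_zero_right [hp : Fact p.Prime] (x : L) : jacobson R p x 0 = 0 :=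
  jacobson_eq_zero_of_lie_eq_zero R x 0 (lie_zero x)

theorem jacobson_zero_left [hp : Fact p.Prime] (x : L) : jacobson R p 0 x = 0 :=
  jacobson_eq_zero_of_lie_eq_zero R 0 x (zero_lie x)

theorem jacobson_smul_self [hp : Fact p.Prime] (c d : R) (x : L) : jacobson R p (c • x) (d • x) = 0 :=
  jacobson_eq_zero_of_lie_eq_zero R _ _ (by rw [smul_lie, lie_smul, lie_self, smul_zero, smul_zero])

theorem bracketWord_smul (c : R) (x y : L) (l : List Bool) :
    bracketWord (pair (c • x) (c • y)) (c • y) l = c ^ (l.length + 1) • bracketWord (pair x y) y l := by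
  induction l with
  | nil => simp
  | cons b l ih =>
    rw [bracketWord_cons, bracketWord_cons, ih, List.length_cons]
    cases b
    · simp only [pair, Bool.false_eq_true, if_false, smul_lie, lie_smul, smul_smul]
      congr 1
      ring
    · simp only [pair, if_true, smul_lie, lie_smul, smul_smul]
      congr 1
      ring

theorem jacobson_smul [hp : Fact p.Prime] (c : R) (x y : L) :
    jacobson R p (c • x) (c • y) = c ^ p • jacobson R p x y := by
  unfold jacobson
  rw [Finset.smul_sum]
  refine Finset.sum_congr rfl fun t _ => ?_
  rw [bracketWord_smul, List.length_ofFn, smul_comm]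
  congr 2
  rw [Nat.sub_add_cancel hp.out.one_le]

end Jac

end K796.Words
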